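import Cfsg.Agent.Lib.Cert.Mod
import Cfsg.Agent.Lib.PermCert.PL

set_option autoImplicit false
set_option maxRecDepth 100000

namespace Cfsg.Agent.Ct.McLp

open Cfsg.Agent.PC

open Cfsg.Agent.Fi Cfsg.Agent.Ct
namespace L1
def t0x : TN := (TN.leaf (nat_lit 335137))
def t1x : TN := (TN.leaf (nat_lit 0x104a22))
def tt : TN := (TN.node (TN.node (TN.node (TN.node t0x (TN.leaf (nat_lit 0))) (TN.node (TN.leaf (nat_lit 0)) (TN.leaf (nat_lit 0)))) (TN.node (TN.node (TN.leaf (nat_lit 0)) (TN.leaf (nat_lit 0))) (TN.node (TN.leaf (nat_lit 0)) (TN.leaf (nat_lit 0))))) (TN.node (TN.node (TN.node t1x (TN.leaf (nat_lit 0))) (TN.node (TN.leaf (nat_lit 0)) (TN.leaf (nat_lit 0)))) (TN.node (TN.node (TN.leaf (nat_lit 0)) (TN.leaf (nat_lit 0))) (TN.node (TN.leaf (nat_lit 0)) (TN.leaf (nat_lit 0))))))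
noncomputable def T (j c : ℕ) : ℕ := getL tt (nat_lit 7) (nat_lit 3) j c
noncomputable def E (j c : ℕ) : ℕ := getL tt (nat_lit 7) (nat_lit 127) j c
theorem T_eq (j c : ℕ) : T j c = E j c % 4 :=
  getL_mod (a := 2) (b := 7) _ _ (by norm_num) (by norm_num) (by norm_num) (by norm_num) j c
def rels : List (List ℕ) := [[nat_lit 0, nat_lit 0, nat_lit 0]]
def inv (i : ℕ) : ℕ := Nat.land (Nat.shiftRight (nat_lit 33) (Nat.mul (nat_lit 2) i)) (nat_lit 3)
def X_t : TN := (TN.leaf (nat_lit 0))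
noncomputable def X (i : ℕ) : ℕ := get9 X_t (nat_lit 1) (nat_lit 1) i
def Jp_t : TN := (TN.leaf (nat_lit 0))
noncomputable def Jp (i : ℕ) : ℕ := get9 Jp_t (nat_lit 1) (nat_lit 1) i
def J_t : TN := (TN.leaf (nat_lit 0))
noncomputable def J (k : ℕ) : ℕ := getV J_t Jp k
def Pa_t : TN := (TN.leaf (nat_lit 0x102080))
noncomputable def Pa (i : ℕ) : ℕ := get9 Pa_t (nat_lit 7) (nat_lit 127) i
def W_t : TL := (TL.leaf [nat_lit 2, nat_lit 0, nat_lit 1, nat_lit 1])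
noncomputable def W (i : ℕ) : List ℕ := TL.get W_t i
def WA_t : TL := (TL.leaf [nat_lit 0])
noncomputable def WA (i : ℕ) : List ℕ := TL.get WA_t i
noncomputable def row : ℕ → ℕ := hRow (nat_lit 2) (nat_lit 2) (nat_lit 0) (nat_lit 4) (nat_lit 4) (nat_lit 16) (nat_lit 64) (nat_lit 64) (nat_lit 0) E X Pa inv (wfun (nat_lit 1) W_t)
noncomputable def aux : ℕ → ℕ := hAux (nat_lit 3) (nat_lit 2) (nat_lit 4) (nat_lit 16) (nat_lit 64) (nat_lit 2) (nat_lit 2) (nat_lit 64) (nat_lit 0) E X J Pa inv WA_t.get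
theorem r0 : Nat.beq (rng row (nat_lit 0) (nat_lit 3)) (nat_lit 0) = true := by decide +kernel
theorem rows : ∀ i < 3, row i = 0 := by
  have h := zero_lt_zero row
  have h := zero_lt_add (a := (nat_lit 0)) (n := (nat_lit 3)) (b := (nat_lit 3)) h r0 rfl
  exact h
theorem auxs : ∀ i < 0, aux i = 0 := by
  have h := zero_lt_zero aux
  exact h
theorem closes.{u} : ClosesT.{u} inv rels 2 0 3 T :=
  hc_closes (N1 := (nat_lit 2)) rfl T_eq (by decide +kernel) rows auxs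
theorem T_inv : ∀ c < 3, ∀ j < 2, T j c < 3 ∧ T (inv j) (T j c) = c := 
  hc_inv (inv := inv) (N1 := (nat_lit 2)) rfl T_eq rows
end L1

namespace L2
def t0x : TN := (TN.leaf (nat_lit 0x256b4224))
def t1x : TN := (TN.leaf (nat_lit 0x82254340))
def t2x : TN := (TN.leaf (nat_lit 0x826f2441))
def tt : TN := (TN.node (TN.node (TN.node (TN.node t0x (TN.leaf (nat_lit 0))) (TN.node (TN.leaf (nat_lit 0)) (TN.leaf (nat_lit 0)))) (TN.node (TN.node t2x (TN.leaf (nat_lit 0))) (TN.node (TN.leaf (nat_lit 0)) (TN.leaf (nat_lit 0))))) (TN.node (TN.node (TN.node t1x (TN.leaf (nat_lit 0))) (TN.node (TN.leaf (nat_lit 0)) (TN.leaf (nat_lit 0)))) (TN.node (TN.node (TN.leaf (nat_lit 0)) (TN.leaf (nat_lit 0))) (TN.node (TN.leaf (nat_lit 0)) (TN.leaf (nat_lit 0))))))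
noncomputable def T (j c : ℕ) : ℕ := getL tt (nat_lit 8) (nat_lit 3) j c
noncomputable def E (j c : ℕ) : ℕ := getL tt (nat_lit 8) (nat_lit 255) j c
theorem T_eq (j c : ℕ) : T j c = E j c % 4 :=
  getL_mod (a := 2) (b := 8) _ _ (by norm_num) (by norm_num) (by norm_num) (by norm_num) j c
def rels : List (List ℕ) := [[nat_lit 0, nat_lit 0, nat_lit 0], [nat_lit 0, nat_lit 2, nat_lit 0, nat_lit 2, nat_lit 0, nat_lit 2]]
def inv (i : ℕ) : ℕ := Nat.land (Nat.shiftRight (nat_lit 225) (Nat.mul (nat_lit 2) i)) (nat_lit 3)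
def X_t : TN := (TN.leaf (nat_lit 0))
noncomputable def X (i : ℕ) : ℕ := get9 X_t (nat_lit 1) (nat_lit 1) i
def Jp_t : TN := (TN.leaf (nat_lit 0))
noncomputable def Jp (i : ℕ) : ℕ := get9 Jp_t (nat_lit 1) (nat_lit 1) i
def J_t : TN := (TN.leaf (nat_lit 0))
noncomputable def J (k : ℕ) : ℕ := getV J_t Jp k
def Pa_t : TN := (TN.leaf (nat_lit 0x90914200))
noncomputable def Pa (i : ℕ) : ℕ := get9 Pa_t (nat_lit 8) (nat_lit 255) i
def W_t : TL := (TL.node (TL.leaf [nat_lit 2, nat_lit 0, nat_lit 1, nat_lit 1]) (TL.leaf [nat_lit 2050, nat_lit 2, nat_lit 1, nat_lit 2, nat_lit 1, nat_lit 2, nat_lit 1]))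
noncomputable def W (i : ℕ) : List ℕ := TL.get W_t i
def WA_t : TL := (TL.leaf [nat_lit 0])
noncomputable def WA (i : ℕ) : List ℕ := TL.get WA_t i
noncomputable def row : ℕ → ℕ := hRow (nat_lit 3) (nat_lit 3) (nat_lit 2) (nat_lit 4) (nat_lit 8) (nat_lit 32) (nat_lit 64) (nat_lit 64) (nat_lit 0) E X Pa inv (wfun (nat_lit 2) W_t)
noncomputable def aux : ℕ → ℕ := hAux (nat_lit 4) (nat_lit 3) (nat_lit 4) (nat_lit 32) (nat_lit 64) (nat_lit 2) (nat_lit 2) (nat_lit 64) (nat_lit 0) E X J Pa inv WA_t.get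
theorem r0 : Nat.beq (rng row (nat_lit 0) (nat_lit 4)) (nat_lit 0) = true := by decide +kernel
theorem rows : ∀ i < 4, row i = 0 := by
  have h := zero_lt_zero row
  have h := zero_lt_add (a := (nat_lit 0)) (n := (nat_lit 4)) (b := (nat_lit 4)) h r0 rfl
  exact h
theorem auxs : ∀ i < 0, aux i = 0 := by
  have h := zero_lt_zero aux
  exact h
theorem closes.{u} : ClosesT.{u} inv rels 3 2 4 T :=
  hc_closes (N1 := (nat_lit 3)) rfl T_eq (by decide +kernel) rows auxs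
theorem T_inv : ∀ c < 4, ∀ j < 3, T j c < 4 ∧ T (inv j) (T j c) = c := 
  hc_inv (inv := inv) (N1 := (nat_lit 3)) rfl T_eq rows
end L2

namespace L3
def t0x : TN := (TN.leaf (nat_lit 0x283a2341193971c32d18116b859caeada52d9c4c44e651507889962a2253260890c94a4e2081b20816409110990c804220))
def t1x : TN := (TN.leaf (nat_lit 0x267b01a609b051af2e1880ab5d981a41c409106d020227497b02082e80b112a024448806208903881840a4010884806400))
def t2x : TN := (TN.leaf (nat_lit 0x46921a809c57142422d74ac3da02e41d75da565012a0c11320208308904051a2cd626ee111903c4442212039014808220))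
def t3x : TN := (TN.leaf (nat_lit 0x242f01b7ce08c445c80f83e88b045622a114889c83527033c106444a41620a9050826223209088881a6642041018440401))
def tt : TN := (TN.node (TN.node (TN.node (TN.node t0x (TN.leaf (nat_lit 0))) (TN.node (TN.leaf (nat_lit 0)) (TN.leaf (nat_lit 0)))) (TN.node (TN.node t2x (TN.leaf (nat_lit 0))) (TN.node (TN.leaf (nat_lit 0)) (TN.leaf (nat_lit 0))))) (TN.node (TN.node (TN.node t1x (TN.leaf (nat_lit 0))) (TN.node (TN.leaf (nat_lit 0)) (TN.leaf (nat_lit 0)))) (TN.node (TN.node t3x (TN.leaf (nat_lit 0))) (TN.node (TN.leaf (nat_lit 0)) (TN.leaf (nat_lit 0))))))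
noncomputable def T (j c : ℕ) : ℕ := getL tt (nat_lit 13) (nat_lit 31) j c
noncomputable def E (j c : ℕ) : ℕ := getL tt (nat_lit 13) (nat_lit 8191) j c
theorem T_eq (j c : ℕ) : T j c = E j c % 32 :=
  getL_mod (a := 5) (b := 13) _ _ (by norm_num) (by norm_num) (by norm_num) (by norm_num) j c
def rels : List (List ℕ) := [[nat_lit 0, nat_lit 0, nat_lit 0], [nat_lit 0, nat_lit 2, nat_lit 0, nat_lit 2, nat_lit 0, nat_lit 2], [nat_lit 0, nat_lit 3, nat_lit 0, nat_lit 3, nat_lit 0, nat_lit 3, nat_lit 0, nat_lit 3], [nat_lit 2, nat_lit 3, nat_lit 2, nat_lit 3, nat_lit 2, nat_lit 3], [nat_lit 3, nat_lit 1, nat_lit 3, nat_lit 2, nat_lit 0, nat_lit 3, nat_lit 1, nat_lit 3, nat_lit 2, nat_lit 0]]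
def inv (i : ℕ) : ℕ := Nat.land (Nat.shiftRight (nat_lit 18049) (Nat.mul (nat_lit 3) i)) (nat_lit 7)
def X_t : TN := (TN.leaf (nat_lit 0))
noncomputable def X (i : ℕ) : ℕ := get9 X_t (nat_lit 1) (nat_lit 1) i
def Jp_t : TN := (TN.leaf (nat_lit 0))
noncomputable def Jp (i : ℕ) : ℕ := get9 Jp_t (nat_lit 1) (nat_lit 1) i
def J_t : TN := (TN.leaf (nat_lit 0))
noncomputable def J (k : ℕ) : ℕ := getV J_t Jp k
def Pa_t : TN := (TN.leaf (nat_lit 0xb42b40b20b13ae3ad2ad0ac3ab38a3893873870871862860853850851640641633632623622412410411203000))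
noncomputable def Pa (i : ℕ) : ℕ := get9 Pa_t (nat_lit 12) (nat_lit 4095) i
def W_t : TL := (TL.node (TL.node (TL.node (TL.node (TL.leaf [nat_lit 2, nat_lit 0, nat_lit 1, nat_lit 1]) (TL.leaf [nat_lit 6145, nat_lit 2, nat_lit 3, nat_lit 2, nat_lit 3, nat_lit 2, nat_lit 3])) (TL.leaf [nat_lit 4100, nat_lit 0, nat_lit 3, nat_lit 1, nat_lit 3, nat_lit 1, nat_lit 3, nat_lit 1, nat_lit 3])) (TL.node (TL.node (TL.leaf [nat_lit 2051, nat_lit 2, nat_lit 0, nat_lit 2, nat_lit 0, nat_lit 2, nat_lit 0]) (TL.leaf [nat_lit 4098, nat_lit 3, nat_lit 1, nat_lit 3, nat_lit 1, nat_lit 3, nat_lit 1, nat_lit 3, nat_lit 1])) (TL.leaf [nat_lit 8195, nat_lit 0, nat_lit 3, nat_lit 2, nat_lit 0, nat_lit 3, nat_lit 1, nat_lit 3, nat_lit 2, nat_lit 0, nat_lit 3]))) (TL.node (TL.node (TL.node (TL.leaf [nat_lit 6147, nat_lit 3, nat_lit 2, nat_lit 3, nat_lit 2, nat_lit 3, nat_lit 2]) (TL.leaf [nat_lit 4097, nat_lit 1, nat_lit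 3, nat_lit 0, nat_lit 3, nat_lit 0, nat_lit 3, nat_lit 0, nat_lit 3])) (TL.leaf [nat_lit 8196, nat_lit 2, nat_lit 3, nat_lit 0, nat_lit 3, nat_lit 1, nat_lit 2, nat_lit 3, nat_lit 0, nat_lit 3, nat_lit 1])) (TL.node (TL.leaf [nat_lit 2050, nat_lit 2, nat_lit 1, nat_lit 2, nat_lit 1, nat_lit 2, nat_lit 1]) (TL.leaf [nat_lit 2049, nat_lit 1, nat_lit 2, nat_lit 0, nat_lit 2, nat_lit 0, nat_lit 2]))))
noncomputable def W (i : ℕ) : List ℕ := TL.get W_t i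
def WA_t : TL := (TL.leaf [nat_lit 0])
noncomputable def WA (i : ℕ) : List ℕ := TL.get WA_t i
noncomputable def row : ℕ → ℕ := hRow (nat_lit 29) (nat_lit 4) (nat_lit 3) (nat_lit 32) (nat_lit 16) (nat_lit 512) (nat_lit 512) (nat_lit 512) (nat_lit 0) E X Pa inv (wfun (nat_lit 11) W_t)
noncomputable def aux : ℕ → ℕ := hAux (nat_lit 30) (nat_lit 4) (nat_lit 32) (nat_lit 512) (nat_lit 512) (nat_lit 2) (nat_lit 2) (nat_lit 512) (nat_lit 0) E X J Pa inv WA_t.get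
theorem r0 : Nat.beq (rng row (nat_lit 0) (nat_lit 30)) (nat_lit 0) = true := by decide +kernel
theorem rows : ∀ i < 30, row i = 0 := by
  have h := zero_lt_zero row
  have h := zero_lt_add (a := (nat_lit 0)) (n := (nat_lit 30)) (b := (nat_lit 30)) h r0 rfl
  exact h
theorem auxs : ∀ i < 0, aux i = 0 := by
  have h := zero_lt_zero aux
  exact h
theorem closes.{u} : ClosesT.{u} inv rels 4 3 30 T :=
  hc_closes (N1 := (nat_lit 29)) rfl T_eq (by decide +kernel) rows auxs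
theorem T_inv : ∀ c < 30, ∀ j < 4, T j c < 30 ∧ T (inv j) (T j c) = c := 
  hc_inv (inv := inv) (N1 := (nat_lit 29)) rfl T_eq rows
end L3

namespace L4
def t0x : TN := (TN.leaf (nat_lit 0x20cb18543804dd013327ce1013f0048b8929c249082dc80385851dc044600f6a040900d66031082b0613f580d1603c500e9002a48918e2394b9152025800b86243600cc20a010108209b404c8404108260403e400ac623b4a2a420934009d01283808c2090100d8e01d3805cc7af304c0e12d28050e1242227c208a18468aa9e2003d001608220c22232298208718448a21c18884208518438a00930454401920018878b10044620c100342082184104003200042080))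
def t1x : TN := (TN.leaf (nat_lit 0x804f0832f404cdb53b2b4d10143004978122e1ca601154039500dda1c4200d020b1082ba8d42200f820ac5870d41bc200a921bb400e061c61011c20a38b50541bd5a6cd202f92700e01f38081f13540078403f3acace1ba500a520263ac9ce013434d9001c33094e0142003c40322806cc01832688c010100c0801908228402d30684e9963802c831d100a080110821c402418c5c800d08214800628020401a206304015100486189100388003082084004186044000))
def t2x : TN := (TN.leaf (nat_lit 0x3a04de8f3dc74ee0f41c04b69d320046082e60dc868f1de74a082d9c03d680d24035a00f820ac900b662c169711603a600a945bc101252db80828c404588b0985c308281602f60079401f51cc820988b6fc40404006d65bb0824d42a65a89d602821c94c014100dc208f40070403348ec1673108230e3a139cac800d28048402e0822420883802ca3a4100a4829920038208610088629118e68401d3285420841005c40160820c401008208400a1001c4005296042080))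
def t3x : TN := (TN.leaf (nat_lit 0x20bd07bd3c20c90832020c3082f020bb10138404db00fdc044a80d9aec6101326037980f8802eaaf1e4bc1082a8404b101296034692e4e4b89110a91c50828944ba600a12030082710bb20826864404aeb4209708254403d2005964330824820910824100140823c40354ae74208e08234208c50084403108228402f610642089100b06429100aceca40821c40271009840251008c40201007c401e08210401b1006020831004c648631014400b100202081100082080))
def t4x : TN := (TN.leaf (nat_lit 0x1804f5a542e04db213a084c5212ee0457011c20b76992420b6b212820b3082ca203f380ba803e8430a6940500bc20a9082a020a60829420a3101204046720d420a0101104043800b1e9304a0f4c6c14a4b5e831718ac2093100f0403b6c09c403a100e4e01a100e0c0120823840347006ca01830044208a6be7cc92428040881e280352696424542087100a8a6222987486990821440212185c208420020401c0820c650b1005020821003c400c100244006082004001))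
def tt : TN := (TN.node (TN.node (TN.node (TN.node t0x (TN.leaf (nat_lit 0))) (TN.node t4x (TN.leaf (nat_lit 0)))) (TN.node (TN.node t2x (TN.leaf (nat_lit 0))) (TN.node (TN.leaf (nat_lit 0)) (TN.leaf (nat_lit 0))))) (TN.node (TN.node (TN.node t1x (TN.leaf (nat_lit 0))) (TN.node (TN.leaf (nat_lit 0)) (TN.leaf (nat_lit 0)))) (TN.node (TN.node t3x (TN.leaf (nat_lit 0))) (TN.node (TN.leaf (nat_lit 0)) (TN.leaf (nat_lit 0))))))
noncomputable def T (j c : ℕ) : ℕ := getL tt (nat_lit 18) (nat_lit 127) j c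
noncomputable def E (j c : ℕ) : ℕ := getL tt (nat_lit 18) (nat_lit 262143) j c
theorem T_eq (j c : ℕ) : T j c = E j c % 128 :=
  getL_mod (a := 7) (b := 18) _ _ (by norm_num) (by norm_num) (by norm_num) (by norm_num) j c
def rels : List (List ℕ) := [[nat_lit 0, nat_lit 0, nat_lit 0], [nat_lit 0, nat_lit 2, nat_lit 0, nat_lit 2, nat_lit 0, nat_lit 2], [nat_lit 0, nat_lit 3, nat_lit 0, nat_lit 3, nat_lit 0, nat_lit 3, nat_lit 0, nat_lit 3], [nat_lit 2, nat_lit 3, nat_lit 2, nat_lit 3, nat_lit 2, nat_lit 3], [nat_lit 3, nat_lit 1, nat_lit 3, nat_lit 2, nat_lit 0, nat_lit 3, nat_lit 1, nat_lit 3, nat_lit 2, nat_lit 0], [nat_lit 0, nat_lit 4, nat_lit 0, nat_lit 4], [nat_lit 3, nat_lit 4, nat_lit 3, nat_lit 4, nat_lit 3, nat_lit 4, nat_lit 3, nat_lit 4], [nat_lit 0, nat_lit 4, nat_lit 2, nat_lit 0, nat_lit 4, nat_lit 2], [nat_lit 0, nat_lit 4, nat_lit 3, nat_lit 0, nat_lit 4, nat_lit 3, nat_lit 0,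 nat_lit 4, nat_lit 3, nat_lit 0, nat_lit 4, nat_lit 3, nat_lit 0, nat_lit 4, nat_lit 3], [nat_lit 4, nat_lit 3, nat_lit 0, nat_lit 3, nat_lit 4, nat_lit 3, nat_lit 0, nat_lit 3, nat_lit 4, nat_lit 3, nat_lit 0, nat_lit 3], [nat_lit 4, nat_lit 3, nat_lit 0, nat_lit 2, nat_lit 4, nat_lit 3, nat_lit 0, nat_lit 2, nat_lit 4, nat_lit 3, nat_lit 4, nat_lit 0, nat_lit 2, nat_lit 0, nat_lit 3, nat_lit 0, nat_lit 2]]
def inv (i : ℕ) : ℕ := Nat.land (Nat.shiftRight (nat_lit 181889) (Nat.mul (nat_lit 3) i)) (nat_lit 7)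
def X_t : TN := (TN.leaf (nat_lit 0))
noncomputable def X (i : ℕ) : ℕ := get9 X_t (nat_lit 1) (nat_lit 1) i
def Jp_t : TN := (TN.leaf (nat_lit 0))
noncomputable def Jp (i : ℕ) : ℕ := get9 Jp_t (nat_lit 1) (nat_lit 1) i
def J_t : TN := (TN.leaf (nat_lit 0))
noncomputable def J (k : ℕ) : ℕ := getV J_t Jp k
def Pa_t : TN := (TN.leaf (nat_lit 0x4cb09963124e241c43387870ecddc93b7476e0ed91db13b347648ec45d70bac27580eb05d51ba947508e99192a32346464c8c5911b2046404c8018e1b1b06346c6098c0317362a6c4d189931306246c44d481a90051e6a3c947228e351a6a30d46128a45146a281450a8935124a209440287450e6a1c1438a06240a88141028a0444086810901a203340646090c1118203042404c4020000))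
noncomputable def Pa (i : ℕ) : ℕ := get9 Pa_t (nat_lit 15) (nat_lit 32767) i
def W_t : TL := (TL.node (TL.node (TL.node (TL.node (TL.node (TL.node (TL.leaf [nat_lit 2, nat_lit 0, nat_lit 1, nat_lit 1]) (TL.leaf [nat_lit 20503, nat_lit 1, nat_lit 2, nat_lit 0, nat_lit 3, nat_lit 0, nat_lit 2, nat_lit 4, nat_lit 3, nat_lit 0, nat_lit 2, nat_lit 4, nat_lit 3, nat_lit 0, nat_lit 2, nat_lit 4, nat_lit 3, nat_lit 4])) (TL.leaf [nat_lit 10242, nat_lit 4, nat_lit 1, nat_lit 4, nat_lit 1])) (TL.node (TL.leaf [nat_lit 18440, nat_lit 4, nat_lit 3, nat_lit 1, nat_lit 3, nat_lit 4, nat_lit 3, nat_lit 1, nat_lit 3, nat_lit 4, nat_lit 3, nat_lit 1, nat_lit 3]) (TL.leaf [nat_lit 1, nat_lit 1, nat_lit 0, nat_lit 0]))) (TL.node (TL.node (TL.leaf [nat_lit 14337, nat_lit 1, nat_lit 4, nat_lit 2, nat_lit 0, nat_lit 4, nat_lit 2]) (TL.leaf [nat_lit 4097, nat_lit 1, nat_lit 3, nat_lit 0, nat_lit 3, nat_lit 0, nat_lit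 3, nat_lit 0, nat_lit 3])) (TL.node (TL.leaf [nat_lit 6145, nat_lit 2, nat_lit 3, nat_lit 2, nat_lit 3, nat_lit 2, nat_lit 3]) (TL.leaf [nat_lit 8193, nat_lit 3, nat_lit 1, nat_lit 3, nat_lit 2, nat_lit 0, nat_lit 3, nat_lit 1, nat_lit 3, nat_lit 2, nat_lit 0])))) (TL.node (TL.node (TL.node (TL.leaf [nat_lit 10244, nat_lit 0, nat_lit 4, nat_lit 1, nat_lit 4]) (TL.leaf [nat_lit 8196, nat_lit 2, nat_lit 3, nat_lit 0, nat_lit 3, nat_lit 1, nat_lit 2, nat_lit 3, nat_lit 0, nat_lit 3, nat_lit 1])) (TL.node (TL.leaf [nat_lit 14340, nat_lit 4, nat_lit 1, nat_lit 2, nat_lit 4, nat_lit 1, nat_lit 2]) (TL.leaf [nat_lit 2052, nat_lit 0, nat_lit 2, nat_lit 1, nat_lit 2, nat_lit 1, nat_lit 2]))) (TL.node (TL.node (TL.leaf [nat_lit 6147, nat_lit 3, nat_lit 2, nat_lit 3, nat_lit 2, nat_lit 3, nat_lit 2]) (TL.leaf [nat_lit 8200, nat_lit 1, nat_lit 3, nat_lit 1, nat_lit 2, nat_lit 3, nat_lit 0, nat_lit 3, nat_lit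 1, nat_lit 2, nat_lit 3])) (TL.node (TL.leaf [nat_lit 12291, nat_lit 4, nat_lit 3, nat_lit 4, nat_lit 3, nat_lit 4, nat_lit 3, nat_lit 4, nat_lit 3]) (TL.leaf [nat_lit 16387, nat_lit 4, nat_lit 3, nat_lit 0, nat_lit 4, nat_lit 3, nat_lit 0, nat_lit 4, nat_lit 3, nat_lit 0, nat_lit 4, nat_lit 3, nat_lit 0, nat_lit 4, nat_lit 3, nat_lit 0]))))) (TL.node (TL.node (TL.node (TL.node (TL.node (TL.leaf [nat_lit 10241, nat_lit 1, nat_lit 4, nat_lit 0, nat_lit 4]) (TL.leaf [nat_lit 4099, nat_lit 3, nat_lit 0, nat_lit 3, nat_lit 0, nat_lit 3, nat_lit 0, nat_lit 3, nat_lit 0])) (TL.leaf [nat_lit 2049, nat_lit 1, nat_lit 2, nat_lit 0, nat_lit 2, nat_lit 0, nat_lit 2])) (TL.node (TL.leaf [nat_lit 14341, nat_lit 2, nat_lit 0, nat_lit 4, nat_lit 2, nat_lit 0, nat_lit 4]) (TL.leaf [nat_lit 14338, nat_lit 2, nat_lit 4, nat_lit 1, nat_lit 2, nat_lit 4, nat_lit 1]))) (TL.node (TL.node (TL.leaf [nat_lit 2050, nat_lit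 2, nat_lit 1, nat_lit 2, nat_lit 1, nat_lit 2, nat_lit 1]) (TL.leaf [nat_lit 4098, nat_lit 3, nat_lit 1, nat_lit 3, nat_lit 1, nat_lit 3, nat_lit 1, nat_lit 3, nat_lit 1])) (TL.node (TL.leaf [nat_lit 4100, nat_lit 0, nat_lit 3, nat_lit 1, nat_lit 3, nat_lit 1, nat_lit 3, nat_lit 1, nat_lit 3]) (TL.leaf [nat_lit 18433, nat_lit 4, nat_lit 3, nat_lit 0, nat_lit 3, nat_lit 4, nat_lit 3, nat_lit 0, nat_lit 3, nat_lit 4, nat_lit 3, nat_lit 0, nat_lit 3])))) (TL.node (TL.node (TL.node (TL.leaf [nat_lit 2051, nat_lit 2, nat_lit 0, nat_lit 2, nat_lit 0, nat_lit 2, nat_lit 0]) (TL.leaf [nat_lit 16390, nat_lit 0, nat_lit 3, nat_lit 4, nat_lit 1, nat_lit 3, nat_lit 4, nat_lit 1, nat_lit 3, nat_lit 4, nat_lit 1, nat_lit 3, nat_lit 4, nat_lit 1, nat_lit 3, nat_lit 4])) (TL.node (TL.leaf [nat_lit 14339, nat_lit 4, nat_lit 2, nat_lit 0, nat_lit 4, nat_lit 2, nat_lit 0]) (TL.leaf [nat_lit 18438, nat_lit 3, nat_lit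 4, nat_lit 3, nat_lit 1, nat_lit 3, nat_lit 4, nat_lit 3, nat_lit 1, nat_lit 3, nat_lit 4, nat_lit 3, nat_lit 1]))) (TL.node (TL.node (TL.leaf [nat_lit 12289, nat_lit 3, nat_lit 4, nat_lit 3, nat_lit 4, nat_lit 3, nat_lit 4, nat_lit 3, nat_lit 4]) (TL.leaf [nat_lit 20496, nat_lit 3, nat_lit 4, nat_lit 2, nat_lit 1, nat_lit 3, nat_lit 4, nat_lit 2, nat_lit 1, nat_lit 3, nat_lit 4, nat_lit 2, nat_lit 1, nat_lit 3, nat_lit 1, nat_lit 2, nat_lit 1, nat_lit 4])) (TL.node (TL.leaf [nat_lit 8195, nat_lit 0, nat_lit 3, nat_lit 2, nat_lit 0, nat_lit 3, nat_lit 1, nat_lit 3, nat_lit 2, nat_lit 0, nat_lit 3]) (TL.leaf [nat_lit 10243, nat_lit 4, nat_lit 0, nat_lit 4, nat_lit 0]))))))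
noncomputable def W (i : ℕ) : List ℕ := TL.get W_t i
def WA_t : TL := (TL.leaf [nat_lit 0])
noncomputable def WA (i : ℕ) : List ℕ := TL.get WA_t i
noncomputable def row : ℕ → ℕ := hRow (nat_lit 80) (nat_lit 5) (nat_lit 4) (nat_lit 128) (nat_lit 64) (nat_lit 8192) (nat_lit 2048) (nat_lit 2048) (nat_lit 0) E X Pa inv (wfun (nat_lit 34) W_t)
noncomputable def aux : ℕ → ℕ := hAux (nat_lit 81) (nat_lit 5) (nat_lit 128) (nat_lit 8192) (nat_lit 2048) (nat_lit 2) (nat_lit 2) (nat_lit 2048) (nat_lit 0) E X J Pa inv WA_t.get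
theorem r0 : Nat.beq (rng row (nat_lit 0) (nat_lit 81)) (nat_lit 0) = true := by decide +kernel
theorem rows : ∀ i < 81, row i = 0 := by
  have h := zero_lt_zero row
  have h := zero_lt_add (a := (nat_lit 0)) (n := (nat_lit 81)) (b := (nat_lit 81)) h r0 rfl
  exact h
theorem auxs : ∀ i < 0, aux i = 0 := by
  have h := zero_lt_zero aux
  exact h
theorem closes.{u} : ClosesT.{u} inv rels 5 4 81 T :=
  hc_closes (N1 := (nat_lit 80)) rfl T_eq (by decide +kernel) rows auxs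
theorem T_inv : ∀ c < 81, ∀ j < 5, T j c < 81 ∧ T (inv j) (T j c) = c := 
  hc_inv (inv := inv) (N1 := (nat_lit 80)) rfl T_eq rows
end L4

namespace L5
def t0x : TN := (TN.leaf (nat_lit 0xc0064b006e7c069b8aef040da9c0587405c7816b8805f040d3040cfb806c040ce0c1637c1667cae7496e08c0577805d0806da0aea716e870051956db84047741657003a70041756e1040b45404d5003d6e0d608062716d96c152040ac2c045040a90c1490805e6814b6002e580377803968ad55003e040a30c14088ad4480335802568035616c27612720abc2c0316003264aaf64acc080505801c516c44803068abb5caca3401e61cc60409550028080484c0267c14324eaa58ab82412b0803f1401b1401a2001d2c0182c016501120803640013140170408b2400d400210802d1cda4040883caa250020040860c11114119240070801f1c1140c50f040840c10a14a8c1c005080100800e08009040810c1030800204080))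
def t1x : TN := (TN.leaf (nat_lit 0xbc06cac9ee040dcb66e47c068a405b78c6d7405a800608006178056bcc6f10062040ce780534c05f84767040c77495d70769980580806b7404d989ea88c5e7004f6c0428c03e080667004c6c959040b3080650806350751680346c0466002e10048040a9809576402c2874a54031800276403a6c9d41003f040a34d7c14cc50240386c02f6c755749c35c025549440409c6473b08052449bd5cc362893744f30680355c745040960804b2802428026080494c9aa78039489a85473c2001508040400133c7174d5920408d30c2d1cd20549b210722109211800f28c1f1099a2871e0802b2000c3c71b5401d10010040861000b0408520f18180080801910009040840801420c0e0801118b870800a10002040810800308000))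
def t2x : TN := (TN.leaf (nat_lit 0xc406ec08ef8026db0064ac06aa82eb74065040d48d267842e671269ae66c4c062482e3040cc040c9040c89025e040c61804f040c0040bf040bb9003e040b969f566004a08068040b449752592516803614a5c040b06402f080617002c5d255080600805f040a70805d6003c040a6688c3040a5040a30805b0805a8e4582c8bd5d245080590409e080573c02d0409d642506d735080535801c59ab2040980804e608cd04096392386e04b2c2ab5001f44a2904092080470804408042148a408041480170408e0408d4c8aa0803a08037548b3440190408b4029b08031452220802e108951000904087080282000c1000a0408508021080201c2910801a0c2100c2940408308013040820800f0408108008080060800404080))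
def t3x : TN := (TN.leaf (nat_lit 0xc0062040dca8ceda65e0a005b040d788ce970368a4065861e6a2567040ce9c04fbce6f7c05da806c8405698055783610806e9e1eb840479403e040ba0806a8225f964de040b5803537c0345c04154e509a26308064040ad040ac7804620cca5003058e488035a7444b8002724037040a565e4258cd1740395403c90359040a1518bf0409e08058718406002e203445c02b0805478e5204099040985c3314c449040965ccb80804d0804c58e360409455a294801b7e1c5040910804304090495234401f0803d14013414220803b0408c51812454a81000f0803308032040890802f040880802a103205401c08026080240c31a28e0e100060801d040840c58a0801708015040820c48d040810800b0c403080070800504080))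
def t4x : TN := (TN.leaf (nat_lit 0x80064a13ee6c065a01ecb405a9c0581005679668040d38405f6906d7c1ef546e35004e7806075661810668c0577c85d6804f9d65bb166b6c050993ea8905e0c1e9040b7880400806744048040b369659641dc4c8624c03d640496c046040aa61d4c406d2862c7686cb040a66c03a84039640315403f853d4506c110023493cd040a06403669044810430409d08055613bb1001c400290805161daf616423c1b064032580283401f401ac440240804a3c1b45562e241a70804520012406ab0c1be0408f3081a0803c3102d1000d080380c1b50408b340213c0131801639317141983d3951c00a388191c1a5206911c00608022300070c19e040840801b1869414008108092cf8e18810351850800c14002106830c18104080))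
def t5x : TN := (TN.leaf (nat_lit 0x40e0b116e7d2e5040dbb8062a0066040d595168887e79c7ea8006d74061a19e3b47eb71fe40806f98058907de8a3c7040c20806c8804e7004d943df86357040b7080698c03685fd35c041600336003d040b185fda6c7d96c02f70045587ca5c0325803f8c05d040a66c7cb6803a880380805c587d27403b54b48040a25dbd0107bc710c0646440409d847c308056887d40409b040995dc5159b490804f0409769ecc600243929f04095580285592a04093559ab0409108046040905c7ae0408f0803e411210c3a03c02d0408c080390408b080354479a080340408908030040880802c1000a080290408608027080250802335107040840801e0801c0c61408018080163800e08012310850800d1878314b020408008001))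
def tt : TN := (TN.node (TN.node (TN.node (TN.node t0x (TN.leaf (nat_lit 0))) (TN.node t4x (TN.leaf (nat_lit 0)))) (TN.node (TN.node t2x (TN.leaf (nat_lit 0))) (TN.node (TN.leaf (nat_lit 0)) (TN.leaf (nat_lit 0))))) (TN.node (TN.node (TN.node t1x (TN.leaf (nat_lit 0))) (TN.node t5x (TN.leaf (nat_lit 0)))) (TN.node (TN.node t3x (TN.leaf (nat_lit 0))) (TN.node (TN.leaf (nat_lit 0)) (TN.leaf (nat_lit 0))))))
noncomputable def T (j c : ℕ) : ℕ := getL tt (nat_lit 20) (nat_lit 127) j c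
noncomputable def E (j c : ℕ) : ℕ := getL tt (nat_lit 20) (nat_lit 0xfffff) j c
theorem T_eq (j c : ℕ) : T j c = E j c % 128 :=
  getL_mod (a := 7) (b := 20) _ _ (by norm_num) (by norm_num) (by norm_num) (by norm_num) j c
def rels : List (List ℕ) := [[nat_lit 0, nat_lit 0, nat_lit 0], [nat_lit 0, nat_lit 2, nat_lit 0, nat_lit 2, nat_lit 0, nat_lit 2], [nat_lit 0, nat_lit 3, nat_lit 0, nat_lit 3, nat_lit 0, nat_lit 3, nat_lit 0, nat_lit 3], [nat_lit 2, nat_lit 3, nat_lit 2, nat_lit 3, nat_lit 2, nat_lit 3], [nat_lit 3, nat_lit 1, nat_lit 3, nat_lit 2, nat_lit 0, nat_lit 3, nat_lit 1, nat_lit 3, nat_lit 2, nat_lit 0], [nat_lit 0, nat_lit 4, nat_lit 0, nat_lit 4], [nat_lit 3, nat_lit 4, nat_lit 3, nat_lit 4, nat_lit 3, nat_lit 4, nat_lit 3, nat_lit 4], [nat_lit 0, nat_lit 4, nat_lit 2, nat_lit 0, nat_lit 4, nat_lit 2], [nat_lit 0, nat_lit 4, nat_lit 3, nat_lit 0, nat_lit 4, nat_lit 3, nat_lit 0,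 nat_lit 4, nat_lit 3, nat_lit 0, nat_lit 4, nat_lit 3, nat_lit 0, nat_lit 4, nat_lit 3], [nat_lit 4, nat_lit 3, nat_lit 0, nat_lit 3, nat_lit 4, nat_lit 3, nat_lit 0, nat_lit 3, nat_lit 4, nat_lit 3, nat_lit 0, nat_lit 3], [nat_lit 4, nat_lit 3, nat_lit 0, nat_lit 2, nat_lit 4, nat_lit 3, nat_lit 0, nat_lit 2, nat_lit 4, nat_lit 3, nat_lit 4, nat_lit 0, nat_lit 2, nat_lit 0, nat_lit 3, nat_lit 0, nat_lit 2], [nat_lit 2, nat_lit 5, nat_lit 2, nat_lit 5, nat_lit 2, nat_lit 5, nat_lit 2, nat_lit 5, nat_lit 2, nat_lit 5], [nat_lit 4, nat_lit 5, nat_lit 4, nat_lit 5], [nat_lit 0, nat_lit 5, nat_lit 2, nat_lit 0, nat_lit 5, nat_lit 2, nat_lit 0, nat_lit 5, nat_lit 2, nat_lit 0, nat_lit 5, nat_lit 2, nat_lit 0, nat_lit 5, nat_lit 2], [nat_lit 0, nat_lit 5, nat_lit 4, nat_lit 0, nat_lit 5, nat_lit 4, nat_lit 0, nat_lit 5, nat_lit 4], [nat_lit 3, nat_lit 4, nat_lit 5, nat_lit 3, nat_lit 4, nat_lit 5,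 nat_lit 3, nat_lit 4, nat_lit 5], [nat_lit 5, nat_lit 1, nat_lit 3, nat_lit 0, nat_lit 5, nat_lit 1, nat_lit 4, nat_lit 3, nat_lit 0, nat_lit 3, nat_lit 4], [nat_lit 5, nat_lit 0, nat_lit 2, nat_lit 3, nat_lit 5, nat_lit 2, nat_lit 5, nat_lit 0, nat_lit 3, nat_lit 4, nat_lit 3, nat_lit 4, nat_lit 2, nat_lit 3, nat_lit 1, nat_lit 3], [nat_lit 5, nat_lit 2, nat_lit 1, nat_lit 3, nat_lit 0, nat_lit 2, nat_lit 5, nat_lit 0, nat_lit 2, nat_lit 0, nat_lit 3, nat_lit 2, nat_lit 0, nat_lit 4, nat_lit 3, nat_lit 1, nat_lit 2, nat_lit 1], [nat_lit 5, nat_lit 2, nat_lit 1, nat_lit 5, nat_lit 0, nat_lit 2, nat_lit 0, nat_lit 5, nat_lit 0, nat_lit 2, nat_lit 3, nat_lit 1, nat_lit 4, nat_lit 3, nat_lit 1, nat_lit 2, nat_lit 4, nat_lit 3], [nat_lit 5, nat_lit 2, nat_lit 3, nat_lit 0, nat_lit 2, nat_lit 3, nat_lit 5, nat_lit 3, nat_lit 1, nat_lit 4, nat_lit 3, nat_lit 2, nat_lit 4, nat_lit 2, nat_lit 3, nat_lit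 2, nat_lit 4]]
def inv (i : ℕ) : ℕ := Nat.land (Nat.shiftRight (nat_lit 0x1ac681) (Nat.mul (nat_lit 3) i)) (nat_lit 7)
def X_t : TN := (TN.leaf (nat_lit 0))
noncomputable def X (i : ℕ) : ℕ := get9 X_t (nat_lit 1) (nat_lit 1) i
def Jp_t : TN := (TN.leaf (nat_lit 0))
noncomputable def Jp (i : ℕ) : ℕ := get9 Jp_t (nat_lit 1) (nat_lit 1) i
def J_t : TN := (TN.leaf (nat_lit 0))
noncomputable def J (k : ℕ) : ℕ := getV J_t Jp k
def Pa_t : TN := (TN.leaf (nat_lit 0x8c0b170e2e0bdb57b40f5cdeaabd427a68f4c1e783ce379c0f385e613c927904f1c5e313c256804cfc99d933a36724cdd59ba33536684cd0199a3331662acc09969b2c36580ca91948329164e4c995932326264a6c9495192a305462a895509aa0453c6a7894eaa9d453a4a7054daa9955326a60d4c1297552c6a5894b0a95552a0a50d49aa922522aa44d482a90341ea83d107120d241a28315061a0b5416882c9058209541268215041a08040e48195030206130a46144c22984430866100c209832304660888099012202040444028000))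
noncomputable def Pa (i : ℕ) : ℕ := get9 Pa_t (nat_lit 15) (nat_lit 32767) i
def W_t1 : TL := (TL.node (TL.node (TL.node (TL.node (TL.node (TL.node (TL.leaf [nat_lit 2, nat_lit 0, nat_lit 1, nat_lit 1]) (TL.leaf [nat_lit 32771, nat_lit 0, nat_lit 3, nat_lit 0, nat_lit 5, nat_lit 1, nat_lit 4, nat_lit 3, nat_lit 0, nat_lit 3, nat_lit 4, nat_lit 5])) (TL.leaf [nat_lit 32769, nat_lit 5, nat_lit 1, nat_lit 3, nat_lit 0, nat_lit 5, nat_lit 1, nat_lit 4, nat_lit 3, nat_lit 0, nat_lit 3, nat_lit 4])) (TL.node (TL.leaf [nat_lit 2049, nat_lit 1, nat_lit 2, nat_lit 0, nat_lit 2, nat_lit 0, nat_lit 2]) (TL.leaf [nat_lit 36877, nat_lit 5, nat_lit 0, nat_lit 2, nat_lit 0, nat_lit 3, nat_lit 2, nat_lit 0, nat_lit 4, nat_lit 3, nat_lit 1, nat_lit 2, nat_lit 1, nat_lit 5, nat_lit 2, nat_lit 1, nat_lit 3, nat_lit 0, nat_lit 2]))) (TL.node (TL.node (TL.node (TL.leaf [nat_lit 40988, nat_lit 0, nat_lit 3, nat_lit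 2, nat_lit 5, nat_lit 4, nat_lit 2, nat_lit 3, nat_lit 2, nat_lit 4, nat_lit 2, nat_lit 3, nat_lit 4, nat_lit 0, nat_lit 3, nat_lit 5, nat_lit 3, nat_lit 2]) (TL.leaf [nat_lit 8198, nat_lit 3, nat_lit 0, nat_lit 3, nat_lit 1, nat_lit 2, nat_lit 3, nat_lit 0, nat_lit 3, nat_lit 1, nat_lit 2])) (TL.leaf [nat_lit 30721, nat_lit 3, nat_lit 4, nat_lit 5, nat_lit 3, nat_lit 4, nat_lit 5, nat_lit 3, nat_lit 4, nat_lit 5])) (TL.node (TL.leaf [nat_lit 8200, nat_lit 1, nat_lit 3, nat_lit 1, nat_lit 2, nat_lit 3, nat_lit 0, nat_lit 3, nat_lit 1, nat_lit 2, nat_lit 3]) (TL.leaf [nat_lit 30723, nat_lit 4, nat_lit 5, nat_lit 3, nat_lit 4, nat_lit 5, nat_lit 3, nat_lit 4, nat_lit 5, nat_lit 3])))) (TL.node (TL.node (TL.node (TL.node (TL.leaf [nat_lit 6147, nat_lit 3, nat_lit 2, nat_lit 3, nat_lit 2, nat_lit 3, nat_lit 2]) (TL.leaf [nat_lit 36865, nat_lit 5, nat_lit 2, nat_lit 1, nat_lit 3, nat_lit 0, nat_lit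 2, nat_lit 5, nat_lit 0, nat_lit 2, nat_lit 0, nat_lit 3, nat_lit 2, nat_lit 0, nat_lit 4, nat_lit 3, nat_lit 1, nat_lit 2, nat_lit 1])) (TL.leaf [nat_lit 34830, nat_lit 4, nat_lit 3, nat_lit 1, nat_lit 5, nat_lit 2, nat_lit 5, nat_lit 3, nat_lit 2, nat_lit 1, nat_lit 5, nat_lit 3, nat_lit 0, nat_lit 3, nat_lit 2, nat_lit 4, nat_lit 3])) (TL.node (TL.leaf [nat_lit 28675, nat_lit 5, nat_lit 4, nat_lit 0, nat_lit 5, nat_lit 4, nat_lit 0, nat_lit 5, nat_lit 4, nat_lit 0]) (TL.leaf [nat_lit 34848, nat_lit 5, nat_lit 3, nat_lit 0, nat_lit 3, nat_lit 2, nat_lit 4, nat_lit 3, nat_lit 4, nat_lit 3, nat_lit 1, nat_lit 5, nat_lit 2, nat_lit 5, nat_lit 3, nat_lit 2, nat_lit 1]))) (TL.node (TL.node (TL.leaf [nat_lit 10241, nat_lit 1, nat_lit 4, nat_lit 0, nat_lit 4]) (TL.leaf [nat_lit 14338, nat_lit 2, nat_lit 4, nat_lit 1, nat_lit 2, nat_lit 4, nat_lit 1])) (TL.node (TL.leaf [nat_lit 28673, nat_lit 1, nat_lit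 5, nat_lit 4, nat_lit 0, nat_lit 5, nat_lit 4, nat_lit 0, nat_lit 5, nat_lit 4]) (TL.leaf [nat_lit 34827, nat_lit 2, nat_lit 5, nat_lit 0, nat_lit 3, nat_lit 4, nat_lit 3, nat_lit 4, nat_lit 2, nat_lit 3, nat_lit 1, nat_lit 3, nat_lit 5, nat_lit 0, nat_lit 2, nat_lit 3, nat_lit 5]))))) (TL.node (TL.node (TL.node (TL.node (TL.node (TL.leaf [nat_lit 2051, nat_lit 2, nat_lit 0, nat_lit 2, nat_lit 0, nat_lit 2, nat_lit 0]) (TL.leaf [nat_lit 34823, nat_lit 3, nat_lit 5, nat_lit 2, nat_lit 5, nat_lit 0, nat_lit 3, nat_lit 4, nat_lit 3, nat_lit 4, nat_lit 2, nat_lit 3, nat_lit 1, nat_lit 3, nat_lit 5, nat_lit 0, nat_lit 2])) (TL.leaf [nat_lit 14341, nat_lit 2, nat_lit 0, nat_lit 4, nat_lit 2, nat_lit 0, nat_lit 4])) (TL.node (TL.leaf [nat_lit 22529, nat_lit 2, nat_lit 5, nat_lit 2, nat_lit 5, nat_lit 2, nat_lit 5, nat_lit 2, nat_lit 5, nat_lit 2, nat_lit 5]) (TL.leaf [nat_lit 32772, nat_lit 3, nat_lit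 1, nat_lit 3, nat_lit 4, nat_lit 0, nat_lit 5, nat_lit 1, nat_lit 3, nat_lit 0, nat_lit 5, nat_lit 4]))) (TL.node (TL.node (TL.node (TL.leaf [nat_lit 38942, nat_lit 5, nat_lit 0, nat_lit 2, nat_lit 5, nat_lit 3, nat_lit 4, nat_lit 2, nat_lit 0, nat_lit 3, nat_lit 4, nat_lit 0, nat_lit 3, nat_lit 2, nat_lit 1, nat_lit 5, nat_lit 1, nat_lit 2, nat_lit 1]) (TL.leaf [nat_lit 34841, nat_lit 2, nat_lit 3, nat_lit 1, nat_lit 3, nat_lit 5, nat_lit 0, nat_lit 2, nat_lit 3, nat_lit 5, nat_lit 2, nat_lit 5, nat_lit 0, nat_lit 3, nat_lit 4, nat_lit 3, nat_lit 4])) (TL.leaf [nat_lit 14340, nat_lit 4, nat_lit 1, nat_lit 2, nat_lit 4, nat_lit 1, nat_lit 2])) (TL.node (TL.leaf [nat_lit 4099, nat_lit 3, nat_lit 0, nat_lit 3, nat_lit 0, nat_lit 3, nat_lit 0, nat_lit 3, nat_lit 0]) (TL.leaf [nat_lit 36885, nat_lit 3, nat_lit 2, nat_lit 0, nat_lit 4, nat_lit 3, nat_lit 1, nat_lit 2, nat_lit 1, nat_lit 5, nat_lit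 2, nat_lit 1, nat_lit 3, nat_lit 0, nat_lit 2, nat_lit 5, nat_lit 0, nat_lit 2, nat_lit 0])))) (TL.node (TL.node (TL.node (TL.node (TL.leaf [nat_lit 32773, nat_lit 3, nat_lit 0, nat_lit 5, nat_lit 1, nat_lit 4, nat_lit 3, nat_lit 0, nat_lit 3, nat_lit 4, nat_lit 5, nat_lit 1]) (TL.leaf [nat_lit 8199, nat_lit 2, nat_lit 0, nat_lit 3, nat_lit 1, nat_lit 3, nat_lit 2, nat_lit 0, nat_lit 3, nat_lit 1, nat_lit 3])) (TL.leaf [nat_lit 8193, nat_lit 3, nat_lit 1, nat_lit 3, nat_lit 2, nat_lit 0, nat_lit 3, nat_lit 1, nat_lit 3, nat_lit 2, nat_lit 0])) (TL.node (TL.leaf [nat_lit 1, nat_lit 1, nat_lit 0, nat_lit 0]) (TL.leaf [nat_lit 34836, nat_lit 5, nat_lit 2, nat_lit 5, nat_lit 3, nat_lit 2, nat_lit 1, nat_lit 5, nat_lit 3, nat_lit 0, nat_lit 3, nat_lit 2, nat_lit 4, nat_lit 3, nat_lit 4, nat_lit 3, nat_lit 1]))) (TL.node (TL.node (TL.leaf [nat_lit 14339, nat_lit 4, nat_lit 2, nat_lit 0, nat_lit 4,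 nat_lit 2, nat_lit 0]) (TL.leaf [nat_lit 34847, nat_lit 3, nat_lit 5, nat_lit 0, nat_lit 2, nat_lit 3, nat_lit 5, nat_lit 2, nat_lit 5, nat_lit 0, nat_lit 3, nat_lit 4, nat_lit 3, nat_lit 4, nat_lit 2, nat_lit 3, nat_lit 1])) (TL.node (TL.leaf [nat_lit 10243, nat_lit 4, nat_lit 0, nat_lit 4, nat_lit 0]) (TL.leaf [nat_lit 38946, nat_lit 2, nat_lit 5, nat_lit 3, nat_lit 4, nat_lit 2, nat_lit 0, nat_lit 3, nat_lit 4, nat_lit 0, nat_lit 3, nat_lit 2, nat_lit 1, nat_lit 5, nat_lit 1, nat_lit 2, nat_lit 1, nat_lit 5, nat_lit 0]))))))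
def W_t2 : TL := (TL.node (TL.node (TL.node (TL.node (TL.node (TL.node (TL.leaf [nat_lit 24577, nat_lit 4, nat_lit 5, nat_lit 4, nat_lit 5]) (TL.leaf [nat_lit 4098, nat_lit 3, nat_lit 1, nat_lit 3, nat_lit 1, nat_lit 3, nat_lit 1, nat_lit 3, nat_lit 1])) (TL.leaf [nat_lit 18440, nat_lit 4, nat_lit 3, nat_lit 1, nat_lit 3, nat_lit 4, nat_lit 3, nat_lit 1, nat_lit 3, nat_lit 4, nat_lit 3, nat_lit 1, nat_lit 3])) (TL.node (TL.leaf [nat_lit 4097, nat_lit 1, nat_lit 3, nat_lit 0, nat_lit 3, nat_lit 0, nat_lit 3, nat_lit 0, nat_lit 3]) (TL.leaf [nat_lit 30725, nat_lit 5, nat_lit 3, nat_lit 4, nat_lit 5, nat_lit 3, nat_lit 4, nat_lit 5, nat_lit 3, nat_lit 4]))) (TL.node (TL.node (TL.node (TL.leaf [nat_lit 36871, nat_lit 3, nat_lit 0, nat_lit 2, nat_lit 5, nat_lit 0, nat_lit 2, nat_lit 0, nat_lit 3, nat_lit 2, nat_lit 0, nat_lit 4, nat_lit 3, nat_lit 1, nat_lit 2, nat_lit 1, nat_lit 5, nat_lit 2, nat_lit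 1]) (TL.leaf [nat_lit 32787, nat_lit 3, nat_lit 4, nat_lit 5, nat_lit 1, nat_lit 3, nat_lit 0, nat_lit 5, nat_lit 1, nat_lit 4, nat_lit 3, nat_lit 0])) (TL.leaf [nat_lit 36879, nat_lit 1, nat_lit 2, nat_lit 0, nat_lit 3, nat_lit 2, nat_lit 0, nat_lit 4, nat_lit 3, nat_lit 1, nat_lit 2, nat_lit 1, nat_lit 5, nat_lit 2, nat_lit 1, nat_lit 3, nat_lit 0, nat_lit 2, nat_lit 5])) (TL.node (TL.leaf [nat_lit 8195, nat_lit 0, nat_lit 3, nat_lit 2, nat_lit 0, nat_lit 3, nat_lit 1, nat_lit 3, nat_lit 2, nat_lit 0, nat_lit 3]) (TL.leaf [nat_lit 16388, nat_lit 4, nat_lit 1, nat_lit 3, nat_lit 4, nat_lit 1, nat_lit 3, nat_lit 4, nat_lit 1, nat_lit 3, nat_lit 4, nat_lit 1, nat_lit 3, nat_lit 4, nat_lit 1, nat_lit 3])))) (TL.node (TL.node (TL.node (TL.node (TL.leaf [nat_lit 22531, nat_lit 5, nat_lit 2, nat_lit 5, nat_lit 2, nat_lit 5, nat_lit 2, nat_lit 5, nat_lit 2, nat_lit 5, nat_lit 2]) (TL.leaf [nat_lit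 26628, nat_lit 5, nat_lit 1, nat_lit 2, nat_lit 5, nat_lit 1, nat_lit 2, nat_lit 5, nat_lit 1, nat_lit 2, nat_lit 5, nat_lit 1, nat_lit 2, nat_lit 5, nat_lit 1, nat_lit 2])) (TL.leaf [nat_lit 12291, nat_lit 4, nat_lit 3, nat_lit 4, nat_lit 3, nat_lit 4, nat_lit 3, nat_lit 4, nat_lit 3])) (TL.node (TL.leaf [nat_lit 32785, nat_lit 1, nat_lit 3, nat_lit 4, nat_lit 5, nat_lit 1, nat_lit 3, nat_lit 0, nat_lit 5, nat_lit 1, nat_lit 4, nat_lit 3]) (TL.leaf [nat_lit 34817, nat_lit 5, nat_lit 0, nat_lit 2, nat_lit 3, nat_lit 5, nat_lit 2, nat_lit 5, nat_lit 0, nat_lit 3, nat_lit 4, nat_lit 3, nat_lit 4, nat_lit 2, nat_lit 3, nat_lit 1, nat_lit 3]))) (TL.node (TL.node (TL.leaf [nat_lit 24579, nat_lit 5, nat_lit 4, nat_lit 5, nat_lit 4]) (TL.leaf [nat_lit 26625, nat_lit 1, nat_lit 5, nat_lit 2, nat_lit 0, nat_lit 5, nat_lit 2, nat_lit 0, nat_lit 5, nat_lit 2, nat_lit 0, nat_lit 5, nat_lit 2, nat_lit 0,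 nat_lit 5, nat_lit 2])) (TL.node (TL.leaf [nat_lit 18433, nat_lit 4, nat_lit 3, nat_lit 0, nat_lit 3, nat_lit 4, nat_lit 3, nat_lit 0, nat_lit 3, nat_lit 4, nat_lit 3, nat_lit 0, nat_lit 3]) (TL.leaf [nat_lit 34825, nat_lit 5, nat_lit 2, nat_lit 5, nat_lit 0, nat_lit 3, nat_lit 4, nat_lit 3, nat_lit 4, nat_lit 2, nat_lit 3, nat_lit 1, nat_lit 3, nat_lit 5, nat_lit 0, nat_lit 2, nat_lit 3]))))) (TL.node (TL.node (TL.node (TL.node (TL.node (TL.leaf [nat_lit 2050, nat_lit 2, nat_lit 1, nat_lit 2, nat_lit 1, nat_lit 2, nat_lit 1]) (TL.leaf [nat_lit 40985, nat_lit 4, nat_lit 2, nat_lit 3, nat_lit 2, nat_lit 4, nat_lit 5, nat_lit 2, nat_lit 3, nat_lit 0, nat_lit 2, nat_lit 3, nat_lit 5, nat_lit 3, nat_lit 1, nat_lit 4, nat_lit 3, nat_lit 2])) (TL.leaf [nat_lit 28676, nat_lit 5, nat_lit 1, nat_lit 4, nat_lit 5, nat_lit 1, nat_lit 4, nat_lit 5, nat_lit 1, nat_lit 4])) (TL.node (TL.leaf [nat_lit 10244,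 nat_lit 0, nat_lit 4, nat_lit 1, nat_lit 4]) (TL.leaf [nat_lit 8196, nat_lit 2, nat_lit 3, nat_lit 0, nat_lit 3, nat_lit 1, nat_lit 2, nat_lit 3, nat_lit 0, nat_lit 3, nat_lit 1]))) (TL.node (TL.node (TL.node (TL.leaf [nat_lit 10242, nat_lit 4, nat_lit 1, nat_lit 4, nat_lit 1]) (TL.leaf [nat_lit 36889, nat_lit 1, nat_lit 4, nat_lit 3, nat_lit 1, nat_lit 2, nat_lit 1, nat_lit 5, nat_lit 2, nat_lit 1, nat_lit 3, nat_lit 0, nat_lit 2, nat_lit 5, nat_lit 0, nat_lit 2, nat_lit 0, nat_lit 3, nat_lit 2])) (TL.leaf [nat_lit 2052, nat_lit 0, nat_lit 2, nat_lit 1, nat_lit 2, nat_lit 1, nat_lit 2])) (TL.node (TL.leaf [nat_lit 4100, nat_lit 0, nat_lit 3, nat_lit 1, nat_lit 3, nat_lit 1, nat_lit 3, nat_lit 1, nat_lit 3]) (TL.leaf [nat_lit 30722, nat_lit 5, nat_lit 4, nat_lit 3, nat_lit 5, nat_lit 4, nat_lit 3, nat_lit 5, nat_lit 4, nat_lit 3])))) (TL.node (TL.node (TL.node (TL.node (TL.leaf [nat_lit 34842,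 nat_lit 3, nat_lit 2, nat_lit 1, nat_lit 5, nat_lit 3, nat_lit 0, nat_lit 3, nat_lit 2, nat_lit 4, nat_lit 3, nat_lit 4, nat_lit 3, nat_lit 1, nat_lit 5, nat_lit 2, nat_lit 5]) (TL.leaf [nat_lit 34818, nat_lit 3, nat_lit 0, nat_lit 3, nat_lit 2, nat_lit 4, nat_lit 3, nat_lit 4, nat_lit 3, nat_lit 1, nat_lit 5, nat_lit 2, nat_lit 5, nat_lit 3, nat_lit 2, nat_lit 1, nat_lit 5])) (TL.leaf [nat_lit 40965, nat_lit 3, nat_lit 0, nat_lit 2, nat_lit 3, nat_lit 5, nat_lit 3, nat_lit 1, nat_lit 4, nat_lit 3, nat_lit 2, nat_lit 4, nat_lit 2, nat_lit 3, nat_lit 2, nat_lit 4, nat_lit 5, nat_lit 2])) (TL.node (TL.leaf [nat_lit 12289, nat_lit 3, nat_lit 4, nat_lit 3, nat_lit 4, nat_lit 3, nat_lit 4, nat_lit 3, nat_lit 4]) (TL.leaf [nat_lit 28678, nat_lit 0, nat_lit 4, nat_lit 5, nat_lit 1, nat_lit 4, nat_lit 5, nat_lit 1, nat_lit 4, nat_lit 5]))) (TL.node (TL.node (TL.leaf [nat_lit 6145, nat_lit 2, nat_lit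 3, nat_lit 2, nat_lit 3, nat_lit 2, nat_lit 3]) (TL.leaf [nat_lit 34833, nat_lit 3, nat_lit 4, nat_lit 3, nat_lit 4, nat_lit 2, nat_lit 3, nat_lit 1, nat_lit 3, nat_lit 5, nat_lit 0, nat_lit 2, nat_lit 3, nat_lit 5, nat_lit 2, nat_lit 5, nat_lit 0])) (TL.node (TL.leaf [nat_lit 32777, nat_lit 5, nat_lit 1, nat_lit 4, nat_lit 3, nat_lit 0, nat_lit 3, nat_lit 4, nat_lit 5, nat_lit 1, nat_lit 3, nat_lit 0]) (TL.leaf [nat_lit 38917, nat_lit 0, nat_lit 5, nat_lit 0, nat_lit 2, nat_lit 0, nat_lit 5, nat_lit 0, nat_lit 2, nat_lit 3, nat_lit 1, nat_lit 4, nat_lit 3, nat_lit 1, nat_lit 2, nat_lit 4, nat_lit 3, nat_lit 5, nat_lit 2]))))))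
def W_t : TL := (TL.node W_t1 W_t2)
noncomputable def W (i : ℕ) : List ℕ := TL.get W_t i
def WA_t : TL := (TL.leaf [nat_lit 0])
noncomputable def WA (i : ℕ) : List ℕ := TL.get WA_t i
noncomputable def row : ℕ → ℕ := hRow (nat_lit 111) (nat_lit 6) (nat_lit 5) (nat_lit 128) (nat_lit 128) (nat_lit 16384) (nat_lit 2048) (nat_lit 2048) (nat_lit 0) E X Pa inv (wfun (nat_lit 76) W_t)
noncomputable def aux : ℕ → ℕ := hAux (nat_lit 112) (nat_lit 6) (nat_lit 128) (nat_lit 16384) (nat_lit 2048) (nat_lit 2) (nat_lit 2) (nat_lit 2048) (nat_lit 0) E X J Pa inv WA_t.get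
theorem r0 : Nat.beq (rng row (nat_lit 0) (nat_lit 112)) (nat_lit 0) = true := by decide +kernel
theorem rows : ∀ i < 112, row i = 0 := by
  have h := zero_lt_zero row
  have h := zero_lt_add (a := (nat_lit 0)) (n := (nat_lit 112)) (b := (nat_lit 112)) h r0 rfl
  exact h
theorem auxs : ∀ i < 0, aux i = 0 := by
  have h := zero_lt_zero aux
  exact h
theorem closes.{u} : ClosesT.{u} inv rels 6 5 112 T :=
  hc_closes (N1 := (nat_lit 111)) rfl T_eq (by decide +kernel) rows auxs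
theorem T_inv : ∀ c < 112, ∀ j < 6, T j c < 112 ∧ T (inv j) (T j c) = c := 
  hc_inv (inv := inv) (N1 := (nat_lit 111)) rfl T_eq rows
end L5

namespace L6
def t0x : TN := (TN.leaf (nat_lit 0x7201120202fb7c00f98a09100202eb7c050e76010c6c00ef5a00e70202d64800ff6c05110202ca7957046400f65400db8000ea7000ce5800c46200fa4000d06205097401016943076e250882b70f0202ac0604f87a01056624fe6200cf7e09020202a45e24f44600bc6800e35200c75400ed5e00ec78630d5608f30202940604e95600e00800956c00c15404f204010b5800ab5c00e104010a0202850604df4800da6600d75c00d94400878025036a04dc6748d85e4afd5e00ae5c08d502027c0604d36200865808f56130f15e08fc4000b86205060202746200cc0202730202714e00995a007b5e08c63e00bf4204c80202663c00b15008e65625000202630604be42009f4600ba4200600800623c007538008f5e00b602025b5a00b43a04cb4400a8684ae53c009e4e00af3208d45800670400f75400910202502604aa3e00612a00543604c24400835024e44000883a006c0202470604a10400f03600553404c902024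452009b0202430400ee50008d5000970202414e08c00400e80202400604930400e202023f3a007a44008e4c00425608ad16007d4604b520006d3c00490608dd5b327e0400de02023a40004b1000804404840c00393208a26204d112003e0400d25c08c53c08b702023430049c0202330604770400cd36b2b3304a9d4208b93eb2c302023006047002022f18006934b67f02022c06046b1c4a8902022b404c8c324aa602022a0604650400bd4008722a08b20400bb02022606045f38049032005242e08a30049610003b2a046e0a00560800242824b028004e2800452e002502021f2224a92200292862a702021c06044d0400a51a04510400a31400480400a020049a1c00202c3e781c4c460400982c085a04009234be5d06088b0202161604680c002340ee8104008208001712043d280479020213244a3604007602021212043204006f26905802021006042e04006a124a3c0400641e001d1a083812001804005e04005c06085704005902020b06042206205316244a16000e04004f04004c12000d10001a1804350e00111462280e3e370202050604151800190e4c3114082704002d02020412000a0e00090a000804002104001e04001b0800060e040f06080c0400140a2407020201060403040002020200))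
def t1x : TN := (TN.leaf (nat_lit 0x705b126e01078c010f8400f97e010d7a00eb74290c0202e30202e06400fd7000fa6a00fb6400cc78d8f67a01058200d98000f37228fc5800bf4629086800f56000d66000ce0401116108ff7a07100800f70202ac623b045a00d06000f15800ea5600e46200cf02029f6a2f0b0202995228ed5cc8ec04010e7e07020800e8020294582f0a5200c06a00b15200a4668aef0202915a28e154c8e70800de0202850800876c00d85229034606dd5b08db6800d7645adc0401095e00d43400ae0800d202027c64007e3e28fe6028f46f09010202756138ca3c00b304010636009d4400c3502eee6000c55e007b5629004000713800a66a2ee55000953c28c40800bd020263442ef0020260442ebb4400723e2ecd3e007a5c28b648008a5806b43800742c00613ac8c12a00554c3aaf5c06d558008c0400f8562ee22800a92400504206b22a004e34006602024b0400f202024934007f0800a00202474028bc3a28b032007332007850289b2200464d08c70202424e5a9732005a0606e60400e9080092020240531aab3a005d3606b742dc8e4e2e9842006708003e44005b1e00693e2ea34206da6006d10400df460081422ea50202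3942003a0e2e8236006c5c008614068b0400d35806c638a48f2a00362e00440800760202333a8ab80400cb0400c94200620400c808006f0202302c00581e2e893806a208006a02022c16286d18003c5606ad0400c208006402022a0400be0606b93cc6a84028ba08005e02022636003f0202250400b52e004102022328002f08002408065734069e288aa7080020302e5c1c004a0400aa02021d268a5408004c02021c3ed88318001f3ace881206480400a11e004326065304009c04009a4a068d04009604009304009010067d14003714002b0e2e590400840a3a801c00281000162600341a001904007904007714003110001204007004006e08002d02021004006b040068040065202e4f16001716001104005f2ca4520606560a283b08002102020b1a064504005102020a1c3a2904004d0202090e5a1a16781310282706063804003d0800140202050400350400320c061804002e100007142e1e102e1b08000604002210060e0c3a0d08060c0c000406060804001504000f080002020201040003040000))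
def t2x : TN := (TN.leaf (nat_lit 0x6e010a6e01078a010d0202eb7f5b0e8835100202e37200ef6c47126e00e50202cd6c13117e00f63e00ca7447040202c07e00e66c17015600c20202b80202b70202b16e00f70202af6d4efa6046f96b4af86c54fc7c13066400d30202a70202a55600e95c00f05b2cf170170b5e00bd0202986540ec04010f5c00d95412f25200a36a00e07c47026c130902029204010c6200d402028c694ce77000dc4c00da7000d76e12df0202834a54de5a26ea0202816e34dd4816d65e00906054e26234f53e008f5246d10202795e00b25e00ac0401082446cc0800763c17053c00b350009902026f4e00b94616c502026a5c00be5417003c16c10401030202645a1cc35c54ee0202614854bb02025f4c34c60400ff0400fe02025b5c008a5c34b43a12c95c16cf0400fd0202530400fb0202525800675c16ce3a005c2a12aa02024f02024e0400f43e006b0400f30202495054e838006c1200a01012a108005438349e30007734129c0202435000464e12c80400ed0c469722005652004b0202405000880400e402023f5c34d53c54d212468e3400420400e132005a5b10b52e00584f0c934904845e188602023a4a00870400db4654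820400d844f0802e00485e167e1200380202365000620202340400d02a00352e469d0612cb44e8750202320202314626720202304c00630400c71c006802022e3634a23c46a60400c402022b1a126e5634ad02022a3a002c0400bf4a16704f127b0400bc0202260400ba3e185e02022538a0ab0400b630128b1600372c46891e002820129602022006169f0400b00400ae1e004d02021d0400a90400a81c12511a001e50349502021b0400a42c967f02021a4f109a1e344502021904009b32468d0202170400940400910e26240c002214002d0202150400852ea03910347d14545904007c284e7804007a02021204007404007304007102021004006d124e3c38c4650400690400661616291c345702020c04006004005d10003e02020b0a123d08001404005502020a18544c04005002020904004a0400470400440e000804004102020504003b061c2106161304003318261104002f12120f14000d12660e04002704002304001f04001c0c34180202020a2606040016020201061803040007040004020200))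
def t3x : TN := (TN.leaf (nat_lit 0x202ff9001108e37117400f884370e82010c815d0d7400fb5e00e76400f45e11084000e37600d07400f57200cb6200c67c00ea6c87015a87000401126b46f65e00f00202af72110b6b44fa0202ac73550f6800ef6c00fe7287056237094810f36e00c102029f5c10fd6686f74400b95800a93486ec7448eb7a87025726e95400bc5c5d0a6e00d8020292647ca73e87076200d54800b64000b86400c35e00c85648dd0202835e00be5c00c70202816c5ce602027e5d3a94605ce25800c44200c940009c02027b7437062686cf4838ce5c00750202747153046000b34036d35c10de5a48da6011034600a5565cd46236df3600826c36f25a00bd3e00ab5c36db5886c05210e84800b2580088425cee3e7ee03e00794610e154009b2e86b45e86ca465cbb0202544610b00400fc08005558007d0400f93c10bf468caa5610ed2c005e6600e402024c4486c55a00934400604c00574e004f5400980400f13800910202443ed0d2531eb538006c3a006f5318a00202414aca8a5400845e00d658d0a40400e5369a9e3e006a30ae8f02023e32004746008b44f48c4c009602023b5722ba466e7002023a6010855210950400dc3436c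20400d94200530202380400d75648ad08107c0400d12c00353c48b70202332c0073228c765b28cd0400cc2a9a770202304810714800873886991c00681a0059365c9a3a005d3c36901410691a366e30004818004a34003932005126004b3a866202022642dea33800492a1ea838ca6b30004d34005a32ac5b18106d2a002d4a48a22c00430610ae0400b140ae8002021f305c641e10504c36a120864e2e5c5c0400a624866316106636865f2e7e6730868d2200281e001c04009d2a48560202180400973c864038c23f04008e16002202021504008904008632b86504007f0202140202132a107a0202120400782264321e0019040072080016100021285c5830862c02020f02020e220027207e462084290400612a481e0e4824081023145c3d0e362e02020a0400522c00251a7c111c824514000d0202081c7e310400420a381706102f04003c0400370400360400341c001d02020404002b04002a12641b0c400c020203040020146e0904001a0800020c480602020104001004000b061e07040005020200))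
def t4x : TN := (TN.leaf (nat_lit 0x6a891270611158010d88010e875f0f560b1078570c6e00e35a00e77461097000f86800fb6400cc7689056200f65a00f27e00e86200cd5a56c46000f73a00e27200d65e00b86643070202ac700aeb6e45085e44ff600b042c00ab6600f15600e95845036444f44800bc5706ef3a00be5a00e16306ec7200f90202945444f37c890258530a0202926e52e56000db6c610b3844fe5856ed4c0ae07400854e56de0202846200d75e52e40202815800a46c52d86088dc7042fd5c00d302027c5a0ad53200ae60007e5600915842cf020275600b016261063a00c95d06ca3860cb5060c84e00bd4c00bb5c00ba5c01004e00715400663e00b14e00935524bf3852ee4c44c74652f04a42c65a42c502025e5c0afc02025d6056b64a60b55600973ac0730202543cd2c13200784b06af3056d25600980400fa2a0af52a00502644a94000a73e60a84056a6400088560ad944008302024738006c32007f44569f02024434007434005554569b24609a3800635442ad540ab41c00590202400400ea4c42c00400e65444d03c007a08003f30888e4a008c480a8d02023d46e45b40006d3e52a502023a4a88867244df0400dd4252a31252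820400da0800393056a05e0ad10202370400d45600603a60903400523044b01460771200330400ce32569d3c00b340005f4d0ec33052703000303200583e52893652a13800643800653ccc6928002d3a0042520ac236526a36606b36429902022628424e54427b3e0a720400b90400b72e003448008a2c003b1a609630606e02022202022132569c0400b226003532607924001f2852aa24524f2a006120001c1c564c3c00491a444a3a424b02021a0400a20c004302021904009e0a0a46380a671a0023040095060a8f02021604008b28002e2a945a040087060a8002021404007d2a00252480532c525c1056761660320800122ea26f2ea82f26523c26606836002a26001034ba2c1c001d18001514000f040062280a3602020b184441040057040056187a1322445116001b1a42291e524d14521e04004804004502020702020504003e1652280400381a0020060a3102020424882b1244270e00090c000a0202030400240a0a0d0c420e02020204001802020104001704001104000c040008040006020200))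
def t5x : TN := (TN.leaf (nat_lit 0x860109940f110202f388010e87610f0202e977590c7000ff7200e68415127223088400f18200d07615050202c48200dc7e00e80202be5c30f66e230b6622fe7430fd4a00c56400f46200f06ed6ea6d50f86a00e35e01000202aa623cfb0401107000d78231076022fa54009f6000cd6400d26200de0202947000f904010d7c150202029270150a6e00d86222e4692af76516e2633cae0202866614df6030ec4a6c84803103581adb4a00834600b16cfce56e14f26098d602027c5a00d35902d46230ed5e00c08031062814cf4600a75e14ee633e915600c95c00a9551ccb540ec85000c64e22c74814fc04010450007152006e5320a45c14d140eabf0401014a00bb5f34ac48febd5800b8466c5e56fcba3c006a60007758009b4e00965a009c5a007b4414d95600784a00706400e144007a6000bc0202500400f55a30ca4200754422ce563ca64200875400c14600811600573a00684600795230ef56009d54229e592ab35670b54c004a3e004e5200905302594c14b44022950400eb4a007e0400e76400cc51169802023e44ec8e48008b02023d46148d48308a40006d02023a4022a50400e0603c854c00dd4822da1e00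4f440ea302023844005248fc934000640400d55822b24230ad4422a054b0b05f16b6142276400ea85200443600553e00624e30c34830af32226f5014c23ed48902022d3c00373a22b73ed6693822a102022a2e005818005d3e227d2800613c147226146352fc543400264800b916746534003c480e5b0202235400972c98661422a22a002b34b07354006002021f42f67f2800350400ab1c6c823c30992200272800323a00494a0e9a38144b14701a1400220202190a0043503c74080e4532142c2e003b3e144002021604008f04008c32305c2c22410400880202140400803a986b2800242622512a002e0c3c3326704c0202111e14302c1a2f28923404006c3400422822560400671a00151a001d20224d32b45f02020b268e3604005a1268472800100a1420040053186c1b180e2818000f1a001e16004804004608221808221704003f1830290400391c2213020204040031268e2116721c0c00080202030a000a040025082c0c0202020a300e061a0708000106140504001204000d040009060e06020200))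
def t6x : TN := (TN.leaf (nat_lit 0x84010992010e7033107a2b0f9059117401083e2b0c7000fb7000e5820d1272330d0202cc8000ff0202c96400fa8000e00202bf6a00db0202bc7e2b067a00ea7000d30800b16e6b0b623304200cf96e00f36600f10202ab6200f03200d06cf8f87000dc6536f76032f502029d6800e44800b60202977658e27832fe6e9ee9582ae85400e6529ce76e0d0a660cee0202917800eb5600d27e2b03660cdf5e00964a008e6e0cf26833015a00884200b74a009208008602027c5e32d55a0cd46e2afd542ae15e00bb302af40202785c00a85d2ecd040107589ccb0202730401055200895a509302026b02026a4400aa0202695200a20202650202640401025450be44007d0401005c0cd13800a45a00a602025d400cd9462aed56a69b0202590202555a007a060cfc5676b00202525c00770202510202500400f64276c44a009c5a9cce02024c590ab9420080362aba540c87500cc23c00574800700202443c5e740400ef489ea95800b548008b0202424600600400ec5c2ade44008f082a945c00c748fad80400e34000534232954900dd02023d44004a46589a02023b502ac8586ada5600a3060cd72e2a85560c8402023942f2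4f020238406aa52e007902023742e2bd0400d6020235586ab22ca67f0400cf5afaae225e760202323e009e0400ca0800363c2a71469ca036005632a6682c2a6d4a00660400c60400c50400c334006e3a004d480c6c0400c10400c002022738003408002a44e69836003c4f145e0400b8320025020223309e5a0400b40202223a32a134326f0400b302021f3eda900400af0400ad0400ac44008202021c3832670400a702021b42f88c02021a18761e2e002d2032461e504504009f0202180400993232410202163c583f145e3e04008d34bc5f04008a02021404008304008104007e060c7204007b366a622432330400752000200202103a502f2a00242c9c4702020f2eaa2b060c6102020d02020c04006302020b30585c28582e04005b0400582c0c211e32310400541a004802020904004e04004b0400490202070400430a321704004010000804003a020204126a12105e1104003004002c02020304002904002804002602020204001d0e50150400190e5806060c0504001304000e04000a020200040001))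
def tt : TN := (TN.node (TN.node (TN.node (TN.node t0x (TN.leaf (nat_lit 0))) (TN.node t4x (TN.leaf (nat_lit 0)))) (TN.node (TN.node t2x (TN.leaf (nat_lit 0))) (TN.node t6x (TN.leaf (nat_lit 0))))) (TN.node (TN.node (TN.node t1x (TN.leaf (nat_lit 0))) (TN.node t5x (TN.leaf (nat_lit 0)))) (TN.node (TN.node t3x (TN.leaf (nat_lit 0))) (TN.node (TN.leaf (nat_lit 0)) (TN.leaf (nat_lit 0))))))
noncomputable def T (j c : ℕ) : ℕ := getL tt (nat_lit 24) (nat_lit 511) j c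
noncomputable def E (j c : ℕ) : ℕ := getL tt (nat_lit 24) (nat_lit 0xffffff) j c
theorem T_eq (j c : ℕ) : T j c = E j c % 512 :=
  getL_mod (a := 9) (b := 24) _ _ (by norm_num) (by norm_num) (by norm_num) (by norm_num) j c
def rels : List (List ℕ) := [[nat_lit 0, nat_lit 0, nat_lit 0], [nat_lit 0, nat_lit 2, nat_lit 0, nat_lit 2, nat_lit 0, nat_lit 2], [nat_lit 0, nat_lit 3, nat_lit 0, nat_lit 3, nat_lit 0, nat_lit 3, nat_lit 0, nat_lit 3], [nat_lit 2, nat_lit 3, nat_lit 2, nat_lit 3, nat_lit 2, nat_lit 3], [nat_lit 3, nat_lit 1, nat_lit 3, nat_lit 2, nat_lit 0, nat_lit 3, nat_lit 1, nat_lit 3, nat_lit 2, nat_lit 0], [nat_lit 0, nat_lit 4, nat_lit 0, nat_lit 4], [nat_lit 3, nat_lit 4, nat_lit 3, nat_lit 4, nat_lit 3, nat_lit 4, nat_lit 3, nat_lit 4], [nat_lit 0, nat_lit 4, nat_lit 2, nat_lit 0, nat_lit 4, nat_lit 2], [nat_lit 0, nat_lit 4, nat_lit 3, nat_lit 0, nat_lit 4, nat_lit 3, nat_lit 0,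 nat_lit 4, nat_lit 3, nat_lit 0, nat_lit 4, nat_lit 3, nat_lit 0, nat_lit 4, nat_lit 3], [nat_lit 4, nat_lit 3, nat_lit 0, nat_lit 3, nat_lit 4, nat_lit 3, nat_lit 0, nat_lit 3, nat_lit 4, nat_lit 3, nat_lit 0, nat_lit 3], [nat_lit 4, nat_lit 3, nat_lit 0, nat_lit 2, nat_lit 4, nat_lit 3, nat_lit 0, nat_lit 2, nat_lit 4, nat_lit 3, nat_lit 4, nat_lit 0, nat_lit 2, nat_lit 0, nat_lit 3, nat_lit 0, nat_lit 2], [nat_lit 2, nat_lit 5, nat_lit 2, nat_lit 5, nat_lit 2, nat_lit 5, nat_lit 2, nat_lit 5, nat_lit 2, nat_lit 5], [nat_lit 4, nat_lit 5, nat_lit 4, nat_lit 5], [nat_lit 0, nat_lit 5, nat_lit 2, nat_lit 0, nat_lit 5, nat_lit 2, nat_lit 0, nat_lit 5, nat_lit 2, nat_lit 0, nat_lit 5, nat_lit 2, nat_lit 0, nat_lit 5, nat_lit 2], [nat_lit 0, nat_lit 5, nat_lit 4, nat_lit 0, nat_lit 5, nat_lit 4, nat_lit 0, nat_lit 5, nat_lit 4], [nat_lit 3, nat_lit 4, nat_lit 5, nat_lit 3, nat_lit 4, nat_lit 5,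 nat_lit 3, nat_lit 4, nat_lit 5], [nat_lit 5, nat_lit 1, nat_lit 3, nat_lit 0, nat_lit 5, nat_lit 1, nat_lit 4, nat_lit 3, nat_lit 0, nat_lit 3, nat_lit 4], [nat_lit 5, nat_lit 0, nat_lit 2, nat_lit 3, nat_lit 5, nat_lit 2, nat_lit 5, nat_lit 0, nat_lit 3, nat_lit 4, nat_lit 3, nat_lit 4, nat_lit 2, nat_lit 3, nat_lit 1, nat_lit 3], [nat_lit 5, nat_lit 2, nat_lit 1, nat_lit 3, nat_lit 0, nat_lit 2, nat_lit 5, nat_lit 0, nat_lit 2, nat_lit 0, nat_lit 3, nat_lit 2, nat_lit 0, nat_lit 4, nat_lit 3, nat_lit 1, nat_lit 2, nat_lit 1], [nat_lit 5, nat_lit 2, nat_lit 1, nat_lit 5, nat_lit 0, nat_lit 2, nat_lit 0, nat_lit 5, nat_lit 0, nat_lit 2, nat_lit 3, nat_lit 1, nat_lit 4, nat_lit 3, nat_lit 1, nat_lit 2, nat_lit 4, nat_lit 3], [nat_lit 5, nat_lit 2, nat_lit 3, nat_lit 0, nat_lit 2, nat_lit 3, nat_lit 5, nat_lit 3, nat_lit 1, nat_lit 4, nat_lit 3, nat_lit 2, nat_lit 4, nat_lit 2, nat_lit 3, nat_lit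 2, nat_lit 4], [nat_lit 2, nat_lit 6, nat_lit 2, nat_lit 6, nat_lit 2, nat_lit 6, nat_lit 2, nat_lit 6], [nat_lit 3, nat_lit 6, nat_lit 3, nat_lit 6, nat_lit 3, nat_lit 6], [nat_lit 0, nat_lit 6, nat_lit 5, nat_lit 0, nat_lit 6, nat_lit 5, nat_lit 0, nat_lit 6, nat_lit 5, nat_lit 0, nat_lit 6, nat_lit 5, nat_lit 0, nat_lit 6, nat_lit 5], [nat_lit 4, nat_lit 5, nat_lit 6, nat_lit 4, nat_lit 5, nat_lit 6], [nat_lit 6, nat_lit 0, nat_lit 3, nat_lit 2, nat_lit 1, nat_lit 6, nat_lit 1, nat_lit 2, nat_lit 0, nat_lit 5, nat_lit 2, nat_lit 0, nat_lit 3, nat_lit 4, nat_lit 2, nat_lit 1, nat_lit 2, nat_lit 3, nat_lit 1], [nat_lit 6, nat_lit 1, nat_lit 2, nat_lit 0, nat_lit 6, nat_lit 1, nat_lit 2, nat_lit 4, nat_lit 3, nat_lit 1, nat_lit 2, nat_lit 4], [nat_lit 6, nat_lit 3, nat_lit 5, nat_lit 3, nat_lit 6, nat_lit 3, nat_lit 5, nat_lit 3], [nat_lit 6, nat_lit 0, nat_lit 2, nat_lit 5, nat_lit 2, nat_lit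 1, nat_lit 6, nat_lit 4, nat_lit 3, nat_lit 2, nat_lit 1, nat_lit 2, nat_lit 5, nat_lit 2, nat_lit 0, nat_lit 2, nat_lit 3, nat_lit 4], [nat_lit 6, nat_lit 0, nat_lit 4, nat_lit 5, nat_lit 6, nat_lit 0, nat_lit 6, nat_lit 5, nat_lit 1, nat_lit 5], [nat_lit 6, nat_lit 0, nat_lit 4, nat_lit 6, nat_lit 0, nat_lit 3, nat_lit 6, nat_lit 1, nat_lit 4, nat_lit 3, nat_lit 1, nat_lit 4, nat_lit 3, nat_lit 5, nat_lit 1], [nat_lit 6, nat_lit 3, nat_lit 0, nat_lit 2, nat_lit 1, nat_lit 3, nat_lit 0, nat_lit 6, nat_lit 0, nat_lit 3, nat_lit 0, nat_lit 2, nat_lit 3, nat_lit 4, nat_lit 5, nat_lit 2, nat_lit 1, nat_lit 3], [nat_lit 6, nat_lit 0, nat_lit 6, nat_lit 3, nat_lit 0, nat_lit 5, nat_lit 2, nat_lit 6, nat_lit 1, nat_lit 6, nat_lit 1, nat_lit 2, nat_lit 0, nat_lit 3, nat_lit 0, nat_lit 3, nat_lit 5, nat_lit 1, nat_lit 3, nat_lit 1]]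
def inv (i : ℕ) : ℕ := Nat.land (Nat.shiftRight (nat_lit 0xfac681) (Nat.mul (nat_lit 3) i)) (nat_lit 7)
def X_t : TN := (TN.leaf (nat_lit 0))
noncomputable def X (i : ℕ) : ℕ := get9 X_t (nat_lit 1) (nat_lit 1) i
def Jp_t : TN := (TN.leaf (nat_lit 0))
noncomputable def Jp (i : ℕ) : ℕ := get9 Jp_t (nat_lit 1) (nat_lit 1) i
def J_t : TN := (TN.leaf (nat_lit 0))
noncomputable def J (k : ℕ) : ℕ := getV J_t Jp k
def Pa_t : TN := (TN.leaf (nat_lit 0x43fce1f610f3577593bac1dd2aee327718bb805dac0ecd276633b281d92cec4576013afd9d7caebc675c13adc9d624eaf375793ab11d586eac07560baad9d54aea7275293a901d3e6e9f174eb3a645d304c97664a2b25119280c9416492b24919246c922648b324459184c8656428321459088c8336419320519026c81263f1b1f198f8ac7c463e031f058f66c79263c331d518ea2c74363a031cd98e60c710637931ad98d4cc6a2634b319818cacc6466321318c18c62c6126300b17c98bc8c5d662ea316c98b60c59662ab315118a86c5326293314898a2cc5066282b140189e4c4e262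633130d8962c4926248b11d188e0c4716223311118886c4406219310c1884cc4215209a90414808a40252002900547e4a3f051f2a8f8d47aca3d551ea28ed94766a3a551d228e8d4744a3a051cb28e45470ca38551c1a8dd946e8a36251ab28d094680a333519828cc5464ca322518928c0d4604a3005180a8bc145c4a2d5516028b054564a2b05152a8a894540a2a1513b2899144c6a26251302898544a4a251511b288d54462a2265112288514404a1f650faa87cd43e0a1d250e8a87194380a1c150db286c9434ca1a450d1286554328a19250c32860d02e4816640b2a059102c0815340a920519028a814440a1a04cd02608123409120481022a8106408120401020280f64079a038d01ac80c64061202d9016a80b44059202c1016280a3405120285012c80924048a020d00ec8074302a18148c0a06051302318114c08860433020180d8c06a6034301998098c04a602430111005080264012200810044400c0000))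
noncomputable def Pa (i : ℕ) : ℕ := get9 Pa_t (nat_lit 17) (nat_lit 131071) i
def W_t1 : TL := (TL.node (TL.node (TL.node (TL.node (TL.node (TL.node (TL.leaf [nat_lit 2, nat_lit 0, nat_lit 1, nat_lit 1]) (TL.leaf [nat_lit 51232, nat_lit 2, nat_lit 3, nat_lit 1, nat_lit 6, nat_lit 0, nat_lit 3, nat_lit 2, nat_lit 0, nat_lit 2, nat_lit 4, nat_lit 3, nat_lit 1, nat_lit 2, nat_lit 5, nat_lit 1, nat_lit 2, nat_lit 0, nat_lit 6, nat_lit 0])) (TL.leaf [nat_lit 32772, nat_lit 3, nat_lit 1, nat_lit 3, nat_lit 4, nat_lit 0, nat_lit 5, nat_lit 1, nat_lit 3, nat_lit 0, nat_lit 5, nat_lit 4])) (TL.node (TL.node (TL.leaf [nat_lit 14340, nat_lit 4, nat_lit 1, nat_lit 2, nat_lit 4, nat_lit 1, nat_lit 2]) (TL.leaf [nat_lit 61446, nat_lit 3, nat_lit 4, nat_lit 0, nat_lit 3, nat_lit 4, nat_lit 0, nat_lit 6, nat_lit 3, nat_lit 1, nat_lit 6, nat_lit 4, nat_lit 1, nat_lit 6, nat_lit 0, nat_lit 5])) (TL.leaf [nat_lit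 38943, nat_lit 2, nat_lit 4, nat_lit 3, nat_lit 5, nat_lit 2, nat_lit 1, nat_lit 5, nat_lit 0, nat_lit 2, nat_lit 0, nat_lit 5, nat_lit 0, nat_lit 2, nat_lit 3, nat_lit 1, nat_lit 4, nat_lit 3, nat_lit 1]))) (TL.node (TL.node (TL.node (TL.leaf [nat_lit 2052, nat_lit 0, nat_lit 2, nat_lit 1, nat_lit 2, nat_lit 1, nat_lit 2]) (TL.leaf [nat_lit 20506, nat_lit 4, nat_lit 2, nat_lit 1, nat_lit 3, nat_lit 4, nat_lit 2, nat_lit 1, nat_lit 3, nat_lit 1, nat_lit 2, nat_lit 1, nat_lit 4, nat_lit 3, nat_lit 4, nat_lit 2, nat_lit 1, nat_lit 3])) (TL.leaf [nat_lit 32785, nat_lit 1, nat_lit 3, nat_lit 4, nat_lit 5, nat_lit 1, nat_lit 3, nat_lit 0, nat_lit 5, nat_lit 1, nat_lit 4, nat_lit 3])) (TL.node (TL.leaf [nat_lit 32773, nat_lit 3, nat_lit 0, nat_lit 5, nat_lit 1, nat_lit 4, nat_lit 3, nat_lit 0, nat_lit 3, nat_lit 4, nat_lit 5, nat_lit 1]) (TL.leaf [nat_lit 16388, nat_lit 4, nat_lit 1, nat_lit 3, nat_lit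 4, nat_lit 1, nat_lit 3, nat_lit 4, nat_lit 1, nat_lit 3, nat_lit 4, nat_lit 1, nat_lit 3, nat_lit 4, nat_lit 1, nat_lit 3])))) (TL.node (TL.node (TL.node (TL.node (TL.leaf [nat_lit 55301, nat_lit 5, nat_lit 3, nat_lit 6, nat_lit 3, nat_lit 5, nat_lit 3, nat_lit 6, nat_lit 3]) (TL.leaf [nat_lit 65572, nat_lit 6, nat_lit 1, nat_lit 6, nat_lit 0, nat_lit 3, nat_lit 0, nat_lit 5, nat_lit 3, nat_lit 1, nat_lit 3, nat_lit 1, nat_lit 2, nat_lit 0, nat_lit 6, nat_lit 0, nat_lit 6, nat_lit 2, nat_lit 5, nat_lit 1, nat_lit 3])) (TL.leaf [nat_lit 40962, nat_lit 4, nat_lit 2, nat_lit 3, nat_lit 2, nat_lit 4, nat_lit 2, nat_lit 3, nat_lit 4, nat_lit 0, nat_lit 3, nat_lit 5, nat_lit 3, nat_lit 2, nat_lit 1, nat_lit 3, nat_lit 2, nat_lit 5])) (TL.node (TL.node (TL.leaf [nat_lit 2051, nat_lit 2, nat_lit 0, nat_lit 2, nat_lit 0, nat_lit 2, nat_lit 0]) (TL.leaf [nat_lit 34843, nat_lit 3, nat_lit 1, nat_lit 3,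 nat_lit 5, nat_lit 0, nat_lit 2, nat_lit 3, nat_lit 5, nat_lit 2, nat_lit 5, nat_lit 0, nat_lit 3, nat_lit 4, nat_lit 3, nat_lit 4, nat_lit 2])) (TL.leaf [nat_lit 34829, nat_lit 5, nat_lit 0, nat_lit 3, nat_lit 4, nat_lit 3, nat_lit 4, nat_lit 2, nat_lit 3, nat_lit 1, nat_lit 3, nat_lit 5, nat_lit 0, nat_lit 2, nat_lit 3, nat_lit 5, nat_lit 2]))) (TL.node (TL.node (TL.node (TL.leaf [nat_lit 14341, nat_lit 2, nat_lit 0, nat_lit 4, nat_lit 2, nat_lit 0, nat_lit 4]) (TL.leaf [nat_lit 59394, nat_lit 5, nat_lit 0, nat_lit 5, nat_lit 6, nat_lit 1, nat_lit 6, nat_lit 5, nat_lit 4, nat_lit 1, nat_lit 6])) (TL.leaf [nat_lit 47106, nat_lit 5, nat_lit 6, nat_lit 1, nat_lit 5, nat_lit 6, nat_lit 1, nat_lit 5, nat_lit 6, nat_lit 1, nat_lit 5, nat_lit 6, nat_lit 1, nat_lit 5, nat_lit 6, nat_lit 1])) (TL.node (TL.leaf [nat_lit 34836, nat_lit 5, nat_lit 2, nat_lit 5, nat_lit 3, nat_lit 2, nat_lit 1, nat_lit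 5, nat_lit 3, nat_lit 0, nat_lit 3, nat_lit 2, nat_lit 4, nat_lit 3, nat_lit 4, nat_lit 3, nat_lit 1]) (TL.leaf [nat_lit 32787, nat_lit 3, nat_lit 4, nat_lit 5, nat_lit 1, nat_lit 3, nat_lit 0, nat_lit 5, nat_lit 1, nat_lit 4, nat_lit 3, nat_lit 0]))))) (TL.node (TL.node (TL.node (TL.node (TL.node (TL.leaf [nat_lit 45059, nat_lit 6, nat_lit 3, nat_lit 6, nat_lit 3, nat_lit 6, nat_lit 3]) (TL.leaf [nat_lit 53268, nat_lit 2, nat_lit 0, nat_lit 6, nat_lit 4, nat_lit 2, nat_lit 0, nat_lit 3, nat_lit 4, nat_lit 2, nat_lit 0, nat_lit 6, nat_lit 1])) (TL.leaf [nat_lit 53265, nat_lit 3, nat_lit 1, nat_lit 2, nat_lit 4, nat_lit 6, nat_lit 1, nat_lit 2, nat_lit 0, nat_lit 6, nat_lit 1, nat_lit 2, nat_lit 4])) (TL.node (TL.node (TL.leaf [nat_lit 28678, nat_lit 0, nat_lit 4, nat_lit 5, nat_lit 1, nat_lit 4, nat_lit 5, nat_lit 1, nat_lit 4, nat_lit 5]) (TL.leaf [nat_lit 34838, nat_lit 2, nat_lit 5, nat_lit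 3, nat_lit 2, nat_lit 1, nat_lit 5, nat_lit 3, nat_lit 0, nat_lit 3, nat_lit 2, nat_lit 4, nat_lit 3, nat_lit 4, nat_lit 3, nat_lit 1, nat_lit 5])) (TL.leaf [nat_lit 40985, nat_lit 4, nat_lit 2, nat_lit 3, nat_lit 2, nat_lit 4, nat_lit 5, nat_lit 2, nat_lit 3, nat_lit 0, nat_lit 2, nat_lit 3, nat_lit 5, nat_lit 3, nat_lit 1, nat_lit 4, nat_lit 3, nat_lit 2]))) (TL.node (TL.node (TL.node (TL.leaf [nat_lit 59398, nat_lit 5, nat_lit 6, nat_lit 1, nat_lit 6, nat_lit 5, nat_lit 4, nat_lit 1, nat_lit 6, nat_lit 5, nat_lit 0]) (TL.leaf [nat_lit 40968, nat_lit 2, nat_lit 4, nat_lit 2, nat_lit 3, nat_lit 4, nat_lit 0, nat_lit 3, nat_lit 5, nat_lit 3, nat_lit 2, nat_lit 1, nat_lit 3, nat_lit 2, nat_lit 5, nat_lit 4, nat_lit 2, nat_lit 3])) (TL.leaf [nat_lit 63490, nat_lit 3, nat_lit 0, nat_lit 2, nat_lit 5, nat_lit 4, nat_lit 3, nat_lit 2, nat_lit 1, nat_lit 3, nat_lit 1, nat_lit 6, nat_lit 1, nat_lit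 3, nat_lit 0, nat_lit 2, nat_lit 1, nat_lit 3, nat_lit 6])) (TL.node (TL.leaf [nat_lit 28676, nat_lit 5, nat_lit 1, nat_lit 4, nat_lit 5, nat_lit 1, nat_lit 4, nat_lit 5, nat_lit 1, nat_lit 4]) (TL.leaf [nat_lit 36865, nat_lit 5, nat_lit 2, nat_lit 1, nat_lit 3, nat_lit 0, nat_lit 2, nat_lit 5, nat_lit 0, nat_lit 2, nat_lit 0, nat_lit 3, nat_lit 2, nat_lit 0, nat_lit 4, nat_lit 3, nat_lit 1, nat_lit 2, nat_lit 1])))) (TL.node (TL.node (TL.node (TL.node (TL.leaf [nat_lit 63518, nat_lit 2, nat_lit 1, nat_lit 3, nat_lit 6, nat_lit 3, nat_lit 0, nat_lit 2, nat_lit 5, nat_lit 4, nat_lit 3, nat_lit 2, nat_lit 1, nat_lit 3, nat_lit 1, nat_lit 6, nat_lit 1, nat_lit 3, nat_lit 0]) (TL.leaf [nat_lit 28675, nat_lit 5, nat_lit 4, nat_lit 0, nat_lit 5, nat_lit 4, nat_lit 0, nat_lit 5, nat_lit 4, nat_lit 0])) (TL.leaf [nat_lit 59401, nat_lit 6, nat_lit 0, nat_lit 6, nat_lit 5, nat_lit 1, nat_lit 5, nat_lit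 6, nat_lit 0, nat_lit 4, nat_lit 5])) (TL.node (TL.node (TL.leaf [nat_lit 4099, nat_lit 3, nat_lit 0, nat_lit 3, nat_lit 0, nat_lit 3, nat_lit 0, nat_lit 3, nat_lit 0]) (TL.leaf [nat_lit 63491, nat_lit 3, nat_lit 0, nat_lit 2, nat_lit 1, nat_lit 3, nat_lit 0, nat_lit 6, nat_lit 0, nat_lit 3, nat_lit 0, nat_lit 2, nat_lit 3, nat_lit 4, nat_lit 5, nat_lit 2, nat_lit 1, nat_lit 3, nat_lit 6])) (TL.leaf [nat_lit 20485, nat_lit 1, nat_lit 2, nat_lit 4, nat_lit 3, nat_lit 0, nat_lit 2, nat_lit 4, nat_lit 3, nat_lit 4, nat_lit 0, nat_lit 2, nat_lit 0, nat_lit 3, nat_lit 0, nat_lit 2, nat_lit 4, nat_lit 3]))) (TL.node (TL.node (TL.node (TL.leaf [nat_lit 22531, nat_lit 5, nat_lit 2, nat_lit 5, nat_lit 2, nat_lit 5, nat_lit 2, nat_lit 5, nat_lit 2, nat_lit 5, nat_lit 2]) (TL.leaf [nat_lit 32769, nat_lit 5, nat_lit 1, nat_lit 3, nat_lit 0, nat_lit 5, nat_lit 1, nat_lit 4, nat_lit 3, nat_lit 0, nat_lit 3,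 nat_lit 4])) (TL.leaf [nat_lit 59400, nat_lit 6, nat_lit 1, nat_lit 6, nat_lit 5, nat_lit 4, nat_lit 1, nat_lit 6, nat_lit 5, nat_lit 0, nat_lit 5])) (TL.node (TL.leaf [nat_lit 61465, nat_lit 3, nat_lit 5, nat_lit 1, nat_lit 6, nat_lit 0, nat_lit 4, nat_lit 6, nat_lit 0, nat_lit 3, nat_lit 6, nat_lit 1, nat_lit 4, nat_lit 3, nat_lit 1, nat_lit 4]) (TL.leaf [nat_lit 59411, nat_lit 5, nat_lit 6, nat_lit 0, nat_lit 4, nat_lit 5, nat_lit 6, nat_lit 0, nat_lit 6, nat_lit 5, nat_lit 1]))))))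
def W_t2 : TL := (TL.node (TL.node (TL.node (TL.node (TL.node (TL.node (TL.leaf [nat_lit 10244, nat_lit 0, nat_lit 4, nat_lit 1, nat_lit 4]) (TL.leaf [nat_lit 14337, nat_lit 1, nat_lit 4, nat_lit 2, nat_lit 0, nat_lit 4, nat_lit 2])) (TL.leaf [nat_lit 12291, nat_lit 4, nat_lit 3, nat_lit 4, nat_lit 3, nat_lit 4, nat_lit 3, nat_lit 4, nat_lit 3])) (TL.node (TL.node (TL.leaf [nat_lit 12289, nat_lit 3, nat_lit 4, nat_lit 3, nat_lit 4, nat_lit 3, nat_lit 4, nat_lit 3, nat_lit 4]) (TL.leaf [nat_lit 63497, nat_lit 0, nat_lit 3, nat_lit 0, nat_lit 6, nat_lit 0, nat_lit 3, nat_lit 0, nat_lit 2, nat_lit 3, nat_lit 4, nat_lit 5, nat_lit 2, nat_lit 1, nat_lit 3, nat_lit 6, nat_lit 3, nat_lit 0, nat_lit 2])) (TL.leaf [nat_lit 61449, nat_lit 1, nat_lit 3, nat_lit 6, nat_lit 1, nat_lit 4, nat_lit 3, nat_lit 1, nat_lit 4, nat_lit 3, nat_lit 5, nat_lit 1, nat_lit 6, nat_lit 0, nat_lit 4, nat_lit 6]))) (TL.node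 (TL.node (TL.node (TL.leaf [nat_lit 2049, nat_lit 1, nat_lit 2, nat_lit 0, nat_lit 2, nat_lit 0, nat_lit 2]) (TL.leaf [nat_lit 65573, nat_lit 3, nat_lit 1, nat_lit 6, nat_lit 0, nat_lit 6, nat_lit 3, nat_lit 0, nat_lit 5, nat_lit 2, nat_lit 6, nat_lit 1, nat_lit 6, nat_lit 1, nat_lit 2, nat_lit 0, nat_lit 3, nat_lit 0, nat_lit 3, nat_lit 5, nat_lit 1])) (TL.leaf [nat_lit 40993, nat_lit 4, nat_lit 5, nat_lit 2, nat_lit 3, nat_lit 0, nat_lit 2, nat_lit 3, nat_lit 5, nat_lit 3, nat_lit 1, nat_lit 4, nat_lit 3, nat_lit 2, nat_lit 4, nat_lit 2, nat_lit 3, nat_lit 2])) (TL.node (TL.leaf [nat_lit 51220, nat_lit 5, nat_lit 1, nat_lit 2, nat_lit 0, nat_lit 6, nat_lit 0, nat_lit 2, nat_lit 3, nat_lit 1, nat_lit 6, nat_lit 0, nat_lit 3, nat_lit 2, nat_lit 0, nat_lit 2, nat_lit 4, nat_lit 3, nat_lit 1, nat_lit 2]) (TL.leaf [nat_lit 34827, nat_lit 2, nat_lit 5, nat_lit 0, nat_lit 3, nat_lit 4, nat_lit 3,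 nat_lit 4, nat_lit 2, nat_lit 3, nat_lit 1, nat_lit 3, nat_lit 5, nat_lit 0, nat_lit 2, nat_lit 3, nat_lit 5])))) (TL.node (TL.node (TL.node (TL.node (TL.leaf [nat_lit 53253, nat_lit 2, nat_lit 0, nat_lit 6, nat_lit 1, nat_lit 2, nat_lit 4, nat_lit 3, nat_lit 1, nat_lit 2, nat_lit 4, nat_lit 6, nat_lit 1]) (TL.leaf [nat_lit 34818, nat_lit 3, nat_lit 0, nat_lit 3, nat_lit 2, nat_lit 4, nat_lit 3, nat_lit 4, nat_lit 3, nat_lit 1, nat_lit 5, nat_lit 2, nat_lit 5, nat_lit 3, nat_lit 2, nat_lit 1, nat_lit 5])) (TL.leaf [nat_lit 40973, nat_lit 5, nat_lit 3, nat_lit 1, nat_lit 4, nat_lit 3, nat_lit 2, nat_lit 4, nat_lit 2, nat_lit 3, nat_lit 2, nat_lit 4, nat_lit 5, nat_lit 2, nat_lit 3, nat_lit 0, nat_lit 2, nat_lit 3])) (TL.node (TL.node (TL.leaf [nat_lit 55297, nat_lit 6, nat_lit 3, nat_lit 5, nat_lit 3, nat_lit 6, nat_lit 3, nat_lit 5, nat_lit 3]) (TL.leaf [nat_lit 26628, nat_lit 5, nat_lit 1, nat_lit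 2, nat_lit 5, nat_lit 1, nat_lit 2, nat_lit 5, nat_lit 1, nat_lit 2, nat_lit 5, nat_lit 1, nat_lit 2, nat_lit 5, nat_lit 1, nat_lit 2])) (TL.leaf [nat_lit 59395, nat_lit 1, nat_lit 4, nat_lit 5, nat_lit 6, nat_lit 0, nat_lit 6, nat_lit 5, nat_lit 1, nat_lit 5, nat_lit 6]))) (TL.node (TL.node (TL.node (TL.leaf [nat_lit 30721, nat_lit 3, nat_lit 4, nat_lit 5, nat_lit 3, nat_lit 4, nat_lit 5, nat_lit 3, nat_lit 4, nat_lit 5]) (TL.leaf [nat_lit 63509, nat_lit 1, nat_lit 2, nat_lit 3, nat_lit 4, nat_lit 5, nat_lit 2, nat_lit 1, nat_lit 3, nat_lit 6, nat_lit 3, nat_lit 0, nat_lit 2, nat_lit 1, nat_lit 3, nat_lit 0, nat_lit 6, nat_lit 0, nat_lit 3])) (TL.leaf [nat_lit 65567, nat_lit 3, nat_lit 5, nat_lit 1, nat_lit 3, nat_lit 1, nat_lit 6, nat_lit 0, nat_lit 6, nat_lit 3, nat_lit 0, nat_lit 5, nat_lit 2, nat_lit 6, nat_lit 1, nat_lit 6, nat_lit 1, nat_lit 2, nat_lit 0, nat_lit 3, nat_lit 0])) (TL.node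 (TL.leaf [nat_lit 65539, nat_lit 1, nat_lit 6, nat_lit 3, nat_lit 0, nat_lit 5, nat_lit 2, nat_lit 6, nat_lit 1, nat_lit 6, nat_lit 1, nat_lit 2, nat_lit 0, nat_lit 3, nat_lit 0, nat_lit 3, nat_lit 5, nat_lit 1, nat_lit 3, nat_lit 1, nat_lit 6]) (TL.leaf [nat_lit 65562, nat_lit 6, nat_lit 2, nat_lit 5, nat_lit 1, nat_lit 3, nat_lit 6, nat_lit 1, nat_lit 6, nat_lit 0, nat_lit 3, nat_lit 0, nat_lit 5, nat_lit 3, nat_lit 1, nat_lit 3, nat_lit 1, nat_lit 2, nat_lit 0, nat_lit 6, nat_lit 0]))))) (TL.node (TL.node (TL.node (TL.node (TL.node (TL.leaf [nat_lit 6147, nat_lit 3, nat_lit 2, nat_lit 3, nat_lit 2, nat_lit 3, nat_lit 2]) (TL.leaf [nat_lit 26629, nat_lit 2, nat_lit 0, nat_lit 5, nat_lit 2, nat_lit 0, nat_lit 5, nat_lit 2, nat_lit 0, nat_lit 5, nat_lit 2, nat_lit 0, nat_lit 5, nat_lit 2, nat_lit 0, nat_lit 5])) (TL.leaf [nat_lit 53259, nat_lit 0, nat_lit 2, nat_lit 4, nat_lit 3, nat_lit 1, nat_lit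 2, nat_lit 4, nat_lit 6, nat_lit 1, nat_lit 2, nat_lit 0, nat_lit 6])) (TL.node (TL.node (TL.leaf [nat_lit 61441, nat_lit 6, nat_lit 0, nat_lit 4, nat_lit 6, nat_lit 0, nat_lit 3, nat_lit 6, nat_lit 1, nat_lit 4, nat_lit 3, nat_lit 1, nat_lit 4, nat_lit 3, nat_lit 5, nat_lit 1]) (TL.leaf [nat_lit 57369, nat_lit 5, nat_lit 2, nat_lit 0, nat_lit 2, nat_lit 3, nat_lit 4, nat_lit 6, nat_lit 0, nat_lit 2, nat_lit 5, nat_lit 2, nat_lit 1, nat_lit 6, nat_lit 4, nat_lit 3, nat_lit 2, nat_lit 1, nat_lit 2])) (TL.leaf [nat_lit 8198, nat_lit 3, nat_lit 0, nat_lit 3, nat_lit 1, nat_lit 2, nat_lit 3, nat_lit 0, nat_lit 3, nat_lit 1, nat_lit 2]))) (TL.node (TL.node (TL.node (TL.leaf [nat_lit 49156, nat_lit 5, nat_lit 4, nat_lit 6, nat_lit 5, nat_lit 4, nat_lit 6]) (TL.leaf [nat_lit 8195, nat_lit 0, nat_lit 3, nat_lit 2, nat_lit 0, nat_lit 3, nat_lit 1, nat_lit 3, nat_lit 2, nat_lit 0, nat_lit 3])) (TL.leaf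 [nat_lit 36888, nat_lit 5, nat_lit 2, nat_lit 1, nat_lit 3, nat_lit 0, nat_lit 2, nat_lit 5, nat_lit 0, nat_lit 2, nat_lit 0, nat_lit 3, nat_lit 4, nat_lit 1, nat_lit 2, nat_lit 3, nat_lit 1, nat_lit 2, nat_lit 1])) (TL.node (TL.leaf [nat_lit 32777, nat_lit 5, nat_lit 1, nat_lit 4, nat_lit 3, nat_lit 0, nat_lit 3, nat_lit 4, nat_lit 5, nat_lit 1, nat_lit 3, nat_lit 0]) (TL.leaf [nat_lit 8196, nat_lit 2, nat_lit 3, nat_lit 0, nat_lit 3, nat_lit 1, nat_lit 2, nat_lit 3, nat_lit 0, nat_lit 3, nat_lit 1])))) (TL.node (TL.node (TL.node (TL.node (TL.leaf [nat_lit 65568, nat_lit 0, nat_lit 3, nat_lit 6, nat_lit 1, nat_lit 6, nat_lit 0, nat_lit 3, nat_lit 0, nat_lit 5, nat_lit 3, nat_lit 1, nat_lit 3, nat_lit 1, nat_lit 2, nat_lit 0, nat_lit 6, nat_lit 0, nat_lit 6, nat_lit 2, nat_lit 5]) (TL.leaf [nat_lit 59406, nat_lit 5, nat_lit 4, nat_lit 1, nat_lit 6, nat_lit 5, nat_lit 0, nat_lit 5, nat_lit 6,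 nat_lit 1, nat_lit 6])) (TL.leaf [nat_lit 22529, nat_lit 2, nat_lit 5, nat_lit 2, nat_lit 5, nat_lit 2, nat_lit 5, nat_lit 2, nat_lit 5, nat_lit 2, nat_lit 5])) (TL.node (TL.node (TL.leaf [nat_lit 10242, nat_lit 4, nat_lit 1, nat_lit 4, nat_lit 1]) (TL.leaf [nat_lit 34840, nat_lit 5, nat_lit 3, nat_lit 2, nat_lit 1, nat_lit 5, nat_lit 3, nat_lit 0, nat_lit 3, nat_lit 2, nat_lit 4, nat_lit 3, nat_lit 4, nat_lit 3, nat_lit 1, nat_lit 5, nat_lit 2])) (TL.leaf [nat_lit 65574, nat_lit 0, nat_lit 6, nat_lit 0, nat_lit 3, nat_lit 0, nat_lit 5, nat_lit 3, nat_lit 1, nat_lit 3, nat_lit 1, nat_lit 2, nat_lit 0, nat_lit 6, nat_lit 0, nat_lit 6, nat_lit 2, nat_lit 5, nat_lit 1, nat_lit 3, nat_lit 6]))) (TL.node (TL.node (TL.node (TL.leaf [nat_lit 53256, nat_lit 3, nat_lit 4, nat_lit 2, nat_lit 0, nat_lit 6, nat_lit 1, nat_lit 2, nat_lit 0, nat_lit 6, nat_lit 4, nat_lit 2, nat_lit 0]) (TL.leaf [nat_lit 34821,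 nat_lit 2, nat_lit 3, nat_lit 5, nat_lit 2, nat_lit 5, nat_lit 0, nat_lit 3, nat_lit 4, nat_lit 3, nat_lit 4, nat_lit 2, nat_lit 3, nat_lit 1, nat_lit 3, nat_lit 5, nat_lit 0])) (TL.leaf [nat_lit 53271, nat_lit 4, nat_lit 6, nat_lit 1, nat_lit 2, nat_lit 0, nat_lit 6, nat_lit 1, nat_lit 2, nat_lit 4, nat_lit 3, nat_lit 1, nat_lit 2])) (TL.node (TL.leaf [nat_lit 28677, nat_lit 4, nat_lit 0, nat_lit 5, nat_lit 4, nat_lit 0, nat_lit 5, nat_lit 4, nat_lit 0, nat_lit 5]) (TL.leaf [nat_lit 61470, nat_lit 6, nat_lit 0, nat_lit 5, nat_lit 3, nat_lit 4, nat_lit 0, nat_lit 3, nat_lit 4, nat_lit 0, nat_lit 6, nat_lit 3, nat_lit 1, nat_lit 6, nat_lit 4, nat_lit 1]))))))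
def W_t3 : TL := (TL.node W_t1 W_t2)
def W_t4 : TL := (TL.node (TL.node (TL.node (TL.node (TL.node (TL.node (TL.leaf [nat_lit 10241, nat_lit 1, nat_lit 4, nat_lit 0, nat_lit 4]) (TL.leaf [nat_lit 49158, nat_lit 4, nat_lit 6, nat_lit 5, nat_lit 4, nat_lit 6, nat_lit 5])) (TL.leaf [nat_lit 45057, nat_lit 3, nat_lit 6, nat_lit 3, nat_lit 6, nat_lit 3, nat_lit 6])) (TL.node (TL.node (TL.leaf [nat_lit 6145, nat_lit 2, nat_lit 3, nat_lit 2, nat_lit 3, nat_lit 2, nat_lit 3]) (TL.leaf [nat_lit 40975, nat_lit 3, nat_lit 1, nat_lit 4, nat_lit 3, nat_lit 2, nat_lit 4, nat_lit 2, nat_lit 3, nat_lit 2, nat_lit 4, nat_lit 5, nat_lit 2, nat_lit 3, nat_lit 0, nat_lit 2, nat_lit 3, nat_lit 5])) (TL.leaf [nat_lit 53255, nat_lit 1, nat_lit 6, nat_lit 1, nat_lit 2, nat_lit 4, nat_lit 3, nat_lit 1, nat_lit 2, nat_lit 4, nat_lit 6, nat_lit 1, nat_lit 2]))) (TL.node (TL.node (TL.node (TL.leaf [nat_lit 14338, nat_lit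 2, nat_lit 4, nat_lit 1, nat_lit 2, nat_lit 4, nat_lit 1]) (TL.leaf [nat_lit 8193, nat_lit 3, nat_lit 1, nat_lit 3, nat_lit 2, nat_lit 0, nat_lit 3, nat_lit 1, nat_lit 3, nat_lit 2, nat_lit 0])) (TL.leaf [nat_lit 61453, nat_lit 6, nat_lit 1, nat_lit 4, nat_lit 3, nat_lit 1, nat_lit 4, nat_lit 3, nat_lit 5, nat_lit 1, nat_lit 6, nat_lit 0, nat_lit 4, nat_lit 6, nat_lit 0, nat_lit 3])) (TL.node (TL.leaf [nat_lit 26626, nat_lit 2, nat_lit 5, nat_lit 1, nat_lit 2, nat_lit 5, nat_lit 1, nat_lit 2, nat_lit 5, nat_lit 1, nat_lit 2, nat_lit 5, nat_lit 1, nat_lit 2, nat_lit 5, nat_lit 1]) (TL.leaf [nat_lit 61458, nat_lit 6, nat_lit 3, nat_lit 1, nat_lit 6, nat_lit 4, nat_lit 1, nat_lit 6, nat_lit 0, nat_lit 5, nat_lit 3, nat_lit 4, nat_lit 0, nat_lit 3, nat_lit 4, nat_lit 0])))) (TL.node (TL.node (TL.node (TL.node (TL.leaf [nat_lit 43009, nat_lit 2, nat_lit 6, nat_lit 2, nat_lit 6, nat_lit 2, nat_lit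 6, nat_lit 2, nat_lit 6]) (TL.leaf [nat_lit 34848, nat_lit 5, nat_lit 3, nat_lit 0, nat_lit 3, nat_lit 2, nat_lit 4, nat_lit 3, nat_lit 4, nat_lit 3, nat_lit 1, nat_lit 5, nat_lit 2, nat_lit 5, nat_lit 3, nat_lit 2, nat_lit 1])) (TL.leaf [nat_lit 34824, nat_lit 2, nat_lit 4, nat_lit 3, nat_lit 4, nat_lit 3, nat_lit 1, nat_lit 5, nat_lit 2, nat_lit 5, nat_lit 3, nat_lit 2, nat_lit 1, nat_lit 5, nat_lit 3, nat_lit 0, nat_lit 3])) (TL.node (TL.node (TL.leaf [nat_lit 14339, nat_lit 4, nat_lit 2, nat_lit 0, nat_lit 4, nat_lit 2, nat_lit 0]) (TL.leaf [nat_lit 32779, nat_lit 0, nat_lit 4, nat_lit 3, nat_lit 0, nat_lit 3, nat_lit 4, nat_lit 5, nat_lit 1, nat_lit 3, nat_lit 0, nat_lit 5])) (TL.leaf [nat_lit 40961, nat_lit 5, nat_lit 2, nat_lit 3, nat_lit 0, nat_lit 2, nat_lit 3, nat_lit 5, nat_lit 3, nat_lit 1, nat_lit 4, nat_lit 3, nat_lit 2, nat_lit 4, nat_lit 2, nat_lit 3, nat_lit 2, nat_lit 4])))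 (TL.node (TL.node (TL.node (TL.leaf [nat_lit 4098, nat_lit 3, nat_lit 1, nat_lit 3, nat_lit 1, nat_lit 3, nat_lit 1, nat_lit 3, nat_lit 1]) (TL.leaf [nat_lit 53264, nat_lit 6, nat_lit 1, nat_lit 2, nat_lit 0, nat_lit 6, nat_lit 4, nat_lit 2, nat_lit 0, nat_lit 3, nat_lit 4, nat_lit 2, nat_lit 0])) (TL.leaf [nat_lit 34846, nat_lit 0, nat_lit 5, nat_lit 3, nat_lit 0, nat_lit 3, nat_lit 2, nat_lit 4, nat_lit 3, nat_lit 4, nat_lit 3, nat_lit 1, nat_lit 5, nat_lit 2, nat_lit 5, nat_lit 3, nat_lit 2])) (TL.node (TL.leaf [nat_lit 57357, nat_lit 6, nat_lit 4, nat_lit 3, nat_lit 2, nat_lit 1, nat_lit 2, nat_lit 5, nat_lit 2, nat_lit 0, nat_lit 2, nat_lit 3, nat_lit 4, nat_lit 6, nat_lit 0, nat_lit 2, nat_lit 5, nat_lit 2, nat_lit 1]) (TL.leaf [nat_lit 61467, nat_lit 5, nat_lit 1, nat_lit 6, nat_lit 0, nat_lit 4, nat_lit 6, nat_lit 0, nat_lit 3, nat_lit 6, nat_lit 1, nat_lit 4, nat_lit 3, nat_lit 1, nat_lit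 4, nat_lit 3]))))) (TL.node (TL.node (TL.node (TL.node (TL.node (TL.leaf [nat_lit 49155, nat_lit 5, nat_lit 6, nat_lit 4, nat_lit 5, nat_lit 6, nat_lit 4]) (TL.leaf [nat_lit 53250, nat_lit 4, nat_lit 2, nat_lit 0, nat_lit 3, nat_lit 4, nat_lit 2, nat_lit 0, nat_lit 6, nat_lit 1, nat_lit 2, nat_lit 0, nat_lit 6])) (TL.leaf [nat_lit 32790, nat_lit 5, nat_lit 4, nat_lit 3, nat_lit 1, nat_lit 3, nat_lit 4, nat_lit 0, nat_lit 5, nat_lit 1, nat_lit 3, nat_lit 0])) (TL.node (TL.node (TL.leaf [nat_lit 8199, nat_lit 2, nat_lit 0, nat_lit 3, nat_lit 1, nat_lit 3, nat_lit 2, nat_lit 0, nat_lit 3, nat_lit 1, nat_lit 3]) (TL.leaf [nat_lit 40972, nat_lit 2, nat_lit 3, nat_lit 4, nat_lit 0, nat_lit 3, nat_lit 5, nat_lit 3, nat_lit 2, nat_lit 1, nat_lit 3, nat_lit 2, nat_lit 5, nat_lit 4, nat_lit 2, nat_lit 3, nat_lit 2, nat_lit 4])) (TL.leaf [nat_lit 59396, nat_lit 1, nat_lit 5, nat_lit 6, nat_lit 1, nat_lit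 6, nat_lit 5, nat_lit 4, nat_lit 1, nat_lit 6, nat_lit 5]))) (TL.node (TL.node (TL.node (TL.leaf [nat_lit 1, nat_lit 1, nat_lit 0, nat_lit 0]) (TL.leaf [nat_lit 65558, nat_lit 6, nat_lit 0, nat_lit 6, nat_lit 2, nat_lit 5, nat_lit 1, nat_lit 3, nat_lit 6, nat_lit 1, nat_lit 6, nat_lit 0, nat_lit 3, nat_lit 0, nat_lit 5, nat_lit 3, nat_lit 1, nat_lit 3, nat_lit 1, nat_lit 2, nat_lit 0])) (TL.leaf [nat_lit 30726, nat_lit 3, nat_lit 5, nat_lit 4, nat_lit 3, nat_lit 5, nat_lit 4, nat_lit 3, nat_lit 5, nat_lit 4])) (TL.node (TL.leaf [nat_lit 32776, nat_lit 3, nat_lit 4, nat_lit 0, nat_lit 5, nat_lit 1, nat_lit 3, nat_lit 0, nat_lit 5, nat_lit 4, nat_lit 3, nat_lit 1]) (TL.leaf [nat_lit 65553, nat_lit 0, nat_lit 6, nat_lit 1, nat_lit 2, nat_lit 0, nat_lit 3, nat_lit 0, nat_lit 3, nat_lit 5, nat_lit 1, nat_lit 3, nat_lit 1, nat_lit 6, nat_lit 0, nat_lit 6, nat_lit 3, nat_lit 0, nat_lit 5, nat_lit 2,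 nat_lit 6])))) (TL.node (TL.node (TL.node (TL.node (TL.leaf [nat_lit 51234, nat_lit 3, nat_lit 1, nat_lit 6, nat_lit 0, nat_lit 3, nat_lit 2, nat_lit 0, nat_lit 2, nat_lit 4, nat_lit 3, nat_lit 1, nat_lit 2, nat_lit 5, nat_lit 1, nat_lit 2, nat_lit 0, nat_lit 6, nat_lit 0, nat_lit 2]) (TL.leaf [nat_lit 8202, nat_lit 3, nat_lit 1, nat_lit 2, nat_lit 3, nat_lit 0, nat_lit 3, nat_lit 1, nat_lit 2, nat_lit 3, nat_lit 0])) (TL.leaf [nat_lit 53257, nat_lit 6, nat_lit 1, nat_lit 2, nat_lit 4, nat_lit 3, nat_lit 1, nat_lit 2, nat_lit 4, nat_lit 6, nat_lit 1, nat_lit 2, nat_lit 0])) (TL.node (TL.node (TL.leaf [nat_lit 53249, nat_lit 6, nat_lit 1, nat_lit 2, nat_lit 0, nat_lit 6, nat_lit 1, nat_lit 2, nat_lit 4, nat_lit 3, nat_lit 1, nat_lit 2, nat_lit 4]) (TL.leaf [nat_lit 38924, nat_lit 4, nat_lit 0, nat_lit 3, nat_lit 2, nat_lit 1, nat_lit 5, nat_lit 1, nat_lit 2, nat_lit 1, nat_lit 5, nat_lit 0, nat_lit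 2, nat_lit 5, nat_lit 3, nat_lit 4, nat_lit 2, nat_lit 0, nat_lit 3])) (TL.leaf [nat_lit 51205, nat_lit 3, nat_lit 2, nat_lit 1, nat_lit 6, nat_lit 1, nat_lit 2, nat_lit 0, nat_lit 5, nat_lit 2, nat_lit 0, nat_lit 3, nat_lit 4, nat_lit 2, nat_lit 1, nat_lit 2, nat_lit 3, nat_lit 1, nat_lit 6, nat_lit 0]))) (TL.node (TL.node (TL.node (TL.leaf [nat_lit 8194, nat_lit 0, nat_lit 2, nat_lit 3, nat_lit 0, nat_lit 3, nat_lit 1, nat_lit 2, nat_lit 3, nat_lit 0, nat_lit 3]) (TL.leaf [nat_lit 38913, nat_lit 5, nat_lit 2, nat_lit 1, nat_lit 5, nat_lit 0, nat_lit 2, nat_lit 0, nat_lit 5, nat_lit 0, nat_lit 2, nat_lit 3, nat_lit 1, nat_lit 4, nat_lit 3, nat_lit 1, nat_lit 2, nat_lit 4, nat_lit 3])) (TL.leaf [nat_lit 38932, nat_lit 0, nat_lit 5, nat_lit 1, nat_lit 2, nat_lit 1, nat_lit 5, nat_lit 0, nat_lit 2, nat_lit 5, nat_lit 3, nat_lit 4, nat_lit 2, nat_lit 0, nat_lit 3, nat_lit 4, nat_lit 0, nat_lit 3,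 nat_lit 2])) (TL.node (TL.leaf [nat_lit 55303, nat_lit 3, nat_lit 6, nat_lit 3, nat_lit 5, nat_lit 3, nat_lit 6, nat_lit 3, nat_lit 5]) (TL.leaf [nat_lit 32782, nat_lit 5, nat_lit 1, nat_lit 3, nat_lit 0, nat_lit 5, nat_lit 4, nat_lit 3, nat_lit 1, nat_lit 3, nat_lit 4, nat_lit 0]))))))
def W_t5 : TL := (TL.node (TL.node (TL.node (TL.node (TL.node (TL.node (TL.leaf [nat_lit 24577, nat_lit 4, nat_lit 5, nat_lit 4, nat_lit 5]) (TL.leaf [nat_lit 59404, nat_lit 6, nat_lit 5, nat_lit 4, nat_lit 1, nat_lit 6, nat_lit 5, nat_lit 0, nat_lit 5, nat_lit 6, nat_lit 1])) (TL.leaf [nat_lit 59403, nat_lit 1, nat_lit 6, nat_lit 5, nat_lit 1, nat_lit 5, nat_lit 6, nat_lit 0, nat_lit 4, nat_lit 5, nat_lit 6])) (TL.node (TL.node (TL.leaf [nat_lit 4100, nat_lit 0, nat_lit 3, nat_lit 1, nat_lit 3, nat_lit 1, nat_lit 3, nat_lit 1, nat_lit 3]) (TL.leaf [nat_lit 63495, nat_lit 2, nat_lit 1, nat_lit 3, nat_lit 0, nat_lit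 6, nat_lit 0, nat_lit 3, nat_lit 0, nat_lit 2, nat_lit 3, nat_lit 4, nat_lit 5, nat_lit 2, nat_lit 1, nat_lit 3, nat_lit 6, nat_lit 3, nat_lit 0])) (TL.leaf [nat_lit 34832, nat_lit 3, nat_lit 1, nat_lit 5, nat_lit 2, nat_lit 5, nat_lit 3, nat_lit 2, nat_lit 1, nat_lit 5, nat_lit 3, nat_lit 0, nat_lit 3, nat_lit 2, nat_lit 4, nat_lit 3, nat_lit 4]))) (TL.node (TL.node (TL.node (TL.leaf [nat_lit 43011, nat_lit 6, nat_lit 2, nat_lit 6, nat_lit 2, nat_lit 6, nat_lit 2, nat_lit 6, nat_lit 2]) (TL.leaf [nat_lit 59407, nat_lit 5, nat_lit 1, nat_lit 5, nat_lit 6, nat_lit 0, nat_lit 4, nat_lit 5, nat_lit 6, nat_lit 0, nat_lit 6])) (TL.leaf [nat_lit 63489, nat_lit 6, nat_lit 3, nat_lit 0, nat_lit 2, nat_lit 1, nat_lit 3, nat_lit 0, nat_lit 6, nat_lit 0, nat_lit 3, nat_lit 0, nat_lit 2, nat_lit 3, nat_lit 4, nat_lit 5, nat_lit 2, nat_lit 1, nat_lit 3])) (TL.node (TL.leaf [nat_lit 49154, nat_lit 6, nat_lit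 5, nat_lit 4, nat_lit 6, nat_lit 5, nat_lit 4]) (TL.leaf [nat_lit 34825, nat_lit 5, nat_lit 2, nat_lit 5, nat_lit 0, nat_lit 3, nat_lit 4, nat_lit 3, nat_lit 4, nat_lit 2, nat_lit 3, nat_lit 1, nat_lit 3, nat_lit 5, nat_lit 0, nat_lit 2, nat_lit 3])))) (TL.node (TL.node (TL.node (TL.node (TL.leaf [nat_lit 57351, nat_lit 5, nat_lit 2, nat_lit 1, nat_lit 6, nat_lit 4, nat_lit 3, nat_lit 2, nat_lit 1, nat_lit 2, nat_lit 5, nat_lit 2, nat_lit 0, nat_lit 2, nat_lit 3, nat_lit 4, nat_lit 6, nat_lit 0, nat_lit 2]) (TL.leaf [nat_lit 34831, nat_lit 1, nat_lit 3, nat_lit 4, nat_lit 3, nat_lit 4, nat_lit 2, nat_lit 3, nat_lit 1, nat_lit 3, nat_lit 5, nat_lit 0, nat_lit 2, nat_lit 3, nat_lit 5, nat_lit 2, nat_lit 5])) (TL.leaf [nat_lit 40990, nat_lit 3, nat_lit 2, nat_lit 5, nat_lit 4, nat_lit 2, nat_lit 3, nat_lit 2, nat_lit 4, nat_lit 2, nat_lit 3, nat_lit 4, nat_lit 0, nat_lit 3, nat_lit 5, nat_lit 3,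 nat_lit 2, nat_lit 1])) (TL.node (TL.node (TL.leaf [nat_lit 4097, nat_lit 1, nat_lit 3, nat_lit 0, nat_lit 3, nat_lit 0, nat_lit 3, nat_lit 0, nat_lit 3]) (TL.leaf [nat_lit 38923, nat_lit 2, nat_lit 0, nat_lit 5, nat_lit 0, nat_lit 2, nat_lit 3, nat_lit 1, nat_lit 4, nat_lit 3, nat_lit 1, nat_lit 2, nat_lit 4, nat_lit 3, nat_lit 5, nat_lit 2, nat_lit 1, nat_lit 5, nat_lit 0])) (TL.leaf [nat_lit 61464, nat_lit 6, nat_lit 4, nat_lit 1, nat_lit 6, nat_lit 0, nat_lit 5, nat_lit 3, nat_lit 4, nat_lit 0, nat_lit 3, nat_lit 4, nat_lit 0, nat_lit 6, nat_lit 3, nat_lit 1]))) (TL.node (TL.node (TL.node (TL.leaf [nat_lit 28673, nat_lit 1, nat_lit 5, nat_lit 4, nat_lit 0, nat_lit 5, nat_lit 4, nat_lit 0, nat_lit 5, nat_lit 4]) (TL.leaf [nat_lit 63523, nat_lit 3, nat_lit 6, nat_lit 3, nat_lit 0, nat_lit 2, nat_lit 1, nat_lit 3, nat_lit 0, nat_lit 6, nat_lit 0, nat_lit 3, nat_lit 0, nat_lit 2, nat_lit 3, nat_lit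 4, nat_lit 5, nat_lit 2, nat_lit 1])) (TL.leaf [nat_lit 30724, nat_lit 4, nat_lit 3, nat_lit 5, nat_lit 4, nat_lit 3, nat_lit 5, nat_lit 4, nat_lit 3, nat_lit 5])) (TL.node (TL.leaf [nat_lit 53263, nat_lit 4, nat_lit 3, nat_lit 1, nat_lit 2, nat_lit 4, nat_lit 6, nat_lit 1, nat_lit 2, nat_lit 0, nat_lit 6, nat_lit 1, nat_lit 2]) (TL.leaf [nat_lit 65551, nat_lit 6, nat_lit 1, nat_lit 6, nat_lit 1, nat_lit 2, nat_lit 0, nat_lit 3, nat_lit 0, nat_lit 3, nat_lit 5, nat_lit 1, nat_lit 3, nat_lit 1, nat_lit 6, nat_lit 0, nat_lit 6, nat_lit 3, nat_lit 0, nat_lit 5, nat_lit 2]))))) (TL.node (TL.node (TL.node (TL.node (TL.node (TL.leaf [nat_lit 2050, nat_lit 2, nat_lit 1, nat_lit 2, nat_lit 1, nat_lit 2, nat_lit 1]) (TL.leaf [nat_lit 65564, nat_lit 2, nat_lit 5, nat_lit 1, nat_lit 3, nat_lit 6, nat_lit 1, nat_lit 6, nat_lit 0, nat_lit 3, nat_lit 0, nat_lit 5, nat_lit 3, nat_lit 1, nat_lit 3, nat_lit 1,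 nat_lit 2, nat_lit 0, nat_lit 6, nat_lit 0, nat_lit 6])) (TL.leaf [nat_lit 30722, nat_lit 5, nat_lit 4, nat_lit 3, nat_lit 5, nat_lit 4, nat_lit 3, nat_lit 5, nat_lit 4, nat_lit 3])) (TL.node (TL.node (TL.leaf [nat_lit 10243, nat_lit 4, nat_lit 0, nat_lit 4, nat_lit 0]) (TL.leaf [nat_lit 55299, nat_lit 3, nat_lit 5, nat_lit 3, nat_lit 6, nat_lit 3, nat_lit 5, nat_lit 3, nat_lit 6])) (TL.leaf [nat_lit 61466, nat_lit 4, nat_lit 1, nat_lit 6, nat_lit 0, nat_lit 5, nat_lit 3, nat_lit 4, nat_lit 0, nat_lit 3, nat_lit 4, nat_lit 0, nat_lit 6, nat_lit 3, nat_lit 1, nat_lit 6]))) (TL.node (TL.node (TL.node (TL.leaf [nat_lit 49157, nat_lit 6, nat_lit 4, nat_lit 5, nat_lit 6, nat_lit 4, nat_lit 5]) (TL.leaf [nat_lit 32771, nat_lit 0, nat_lit 3, nat_lit 0, nat_lit 5, nat_lit 1, nat_lit 4, nat_lit 3, nat_lit 0, nat_lit 3, nat_lit 4, nat_lit 5])) (TL.leaf [nat_lit 53251, nat_lit 0, nat_lit 2, nat_lit 0, nat_lit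 6, nat_lit 1, nat_lit 2, nat_lit 4, nat_lit 3, nat_lit 1, nat_lit 2, nat_lit 4, nat_lit 6])) (TL.node (TL.leaf [nat_lit 36900, nat_lit 5, nat_lit 0, nat_lit 2, nat_lit 0, nat_lit 3, nat_lit 4, nat_lit 1, nat_lit 2, nat_lit 3, nat_lit 1, nat_lit 2, nat_lit 1, nat_lit 5, nat_lit 2, nat_lit 1, nat_lit 3, nat_lit 0, nat_lit 2]) (TL.leaf [nat_lit 59393, nat_lit 6, nat_lit 0, nat_lit 4, nat_lit 5, nat_lit 6, nat_lit 0, nat_lit 6, nat_lit 5, nat_lit 1, nat_lit 5])))) (TL.node (TL.node (TL.node (TL.node (TL.leaf [nat_lit 24579, nat_lit 5, nat_lit 4, nat_lit 5, nat_lit 4]) (TL.leaf [nat_lit 32786, nat_lit 3, nat_lit 0, nat_lit 5, nat_lit 4, nat_lit 3, nat_lit 1, nat_lit 3, nat_lit 4, nat_lit 0, nat_lit 5, nat_lit 1])) (TL.leaf [nat_lit 59397, nat_lit 4, nat_lit 5, nat_lit 6, nat_lit 0, nat_lit 6, nat_lit 5, nat_lit 1, nat_lit 5, nat_lit 6, nat_lit 0])) (TL.node (TL.leaf [nat_lit 59402, nat_lit 0, nat_lit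 6, nat_lit 5, nat_lit 4, nat_lit 1, nat_lit 6, nat_lit 5, nat_lit 0, nat_lit 5, nat_lit 6]) (TL.leaf [nat_lit 59405, nat_lit 6, nat_lit 5, nat_lit 1, nat_lit 5, nat_lit 6, nat_lit 0, nat_lit 4, nat_lit 5, nat_lit 6, nat_lit 0]))) (TL.node (TL.node (TL.node (TL.leaf [nat_lit 49153, nat_lit 4, nat_lit 5, nat_lit 6, nat_lit 4, nat_lit 5, nat_lit 6]) (TL.leaf [nat_lit 14342, nat_lit 0, nat_lit 2, nat_lit 4, nat_lit 1, nat_lit 2, nat_lit 4])) (TL.leaf [nat_lit 36871, nat_lit 3, nat_lit 0, nat_lit 2, nat_lit 5, nat_lit 0, nat_lit 2, nat_lit 0, nat_lit 3, nat_lit 2, nat_lit 0, nat_lit 4, nat_lit 3, nat_lit 1, nat_lit 2, nat_lit 1, nat_lit 5, nat_lit 2, nat_lit 1])) (TL.node (TL.leaf [nat_lit 8197, nat_lit 3, nat_lit 2, nat_lit 0, nat_lit 3, nat_lit 1, nat_lit 3, nat_lit 2, nat_lit 0, nat_lit 3, nat_lit 1]) (TL.leaf [nat_lit 34817, nat_lit 5, nat_lit 0, nat_lit 2, nat_lit 3, nat_lit 5, nat_lit 2, nat_lit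 5, nat_lit 0, nat_lit 3, nat_lit 4, nat_lit 3, nat_lit 4, nat_lit 2, nat_lit 3, nat_lit 1, nat_lit 3]))))))
def W_t6 : TL := (TL.node W_t4 W_t5)
def W_t : TL := (TL.node W_t3 W_t6)
noncomputable def W (i : ℕ) : List ℕ := TL.get W_t i
def WA_t : TL := (TL.leaf [nat_lit 0])
noncomputable def WA (i : ℕ) : List ℕ := TL.get WA_t i
noncomputable def row : ℕ → ℕ := hRow (nat_lit 274) (nat_lit 7) (nat_lit 6) (nat_lit 512) (nat_lit 256) (nat_lit 131072) (nat_lit 8192) (nat_lit 8192) (nat_lit 0) E X Pa inv (wfun (nat_lit 175) W_t)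
noncomputable def aux : ℕ → ℕ := hAux (nat_lit 275) (nat_lit 7) (nat_lit 512) (nat_lit 131072) (nat_lit 8192) (nat_lit 2) (nat_lit 2) (nat_lit 8192) (nat_lit 0) E X J Pa inv WA_t.get
theorem r0 : Nat.beq (rng row (nat_lit 0) (nat_lit 275)) (nat_lit 0) = true := by decide +kernel
theorem rows : ∀ i < 275, row i = 0 := by
  have h := zero_lt_zero row
  have h := zero_lt_add (a := (nat_lit 0)) (n := (nat_lit 275)) (b := (nat_lit 275)) h r0 rfl
  exact h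
theorem auxs : ∀ i < 0, aux i = 0 := by
  have h := zero_lt_zero aux
  exact h
theorem closes.{u} : ClosesT.{u} inv rels 7 6 275 T :=
  hc_closes (N1 := (nat_lit 274)) rfl T_eq (by decide +kernel) rows auxs
theorem T_inv : ∀ c < 275, ∀ j < 7, T j c < 275 ∧ T (inv j) (T j c) = c := 
  hc_inv (inv := inv) (N1 := (nat_lit 274)) rfl T_eq rows
end L6

def rels : List (List ℕ) := [[nat_lit 0, nat_lit 0, nat_lit 0], [nat_lit 0, nat_lit 2, nat_lit 0, nat_lit 2, nat_lit 0, nat_lit 2], [nat_lit 0, nat_lit 3, nat_lit 0, nat_lit 3, nat_lit 0, nat_lit 3, nat_lit 0, nat_lit 3], [nat_lit 2, nat_lit 3, nat_lit 2, nat_lit 3, nat_lit 2, nat_lit 3], [nat_lit 3, nat_lit 1, nat_lit 3, nat_lit 2, nat_lit 0, nat_lit 3, nat_lit 1, nat_lit 3, nat_lit 2, nat_lit 0], [nat_lit 0, nat_lit 4, nat_lit 0, nat_lit 4], [nat_lit 3, nat_lit 4, nat_lit 3, nat_lit 4, nat_lit 3, nat_lit 4, nat_lit 3, nat_lit 4], [nat_lit 0, nat_lit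 4, nat_lit 2, nat_lit 0, nat_lit 4, nat_lit 2], [nat_lit 0, nat_lit 4, nat_lit 3, nat_lit 0, nat_lit 4, nat_lit 3, nat_lit 0, nat_lit 4, nat_lit 3, nat_lit 0, nat_lit 4, nat_lit 3, nat_lit 0, nat_lit 4, nat_lit 3], [nat_lit 4, nat_lit 3, nat_lit 0, nat_lit 3, nat_lit 4, nat_lit 3, nat_lit 0, nat_lit 3, nat_lit 4, nat_lit 3, nat_lit 0, nat_lit 3], [nat_lit 4, nat_lit 3, nat_lit 0, nat_lit 2, nat_lit 4, nat_lit 3, nat_lit 0, nat_lit 2, nat_lit 4, nat_lit 3, nat_lit 4, nat_lit 0, nat_lit 2, nat_lit 0, nat_lit 3, nat_lit 0, nat_lit 2], [nat_lit 2, nat_lit 5, nat_lit 2, nat_lit 5, nat_lit 2, nat_lit 5, nat_lit 2, nat_lit 5, nat_lit 2, nat_lit 5], [nat_lit 4, nat_lit 5, nat_lit 4, nat_lit 5], [nat_lit 0, nat_lit 5, nat_lit 2, nat_lit 0, nat_lit 5, nat_lit 2, nat_lit 0, nat_lit 5, nat_lit 2, nat_lit 0, nat_lit 5, nat_lit 2, nat_lit 0, nat_lit 5, nat_lit 2], [nat_lit 0, nat_lit 5, nat_lit 4, nat_lit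 0, nat_lit 5, nat_lit 4, nat_lit 0, nat_lit 5, nat_lit 4], [nat_lit 3, nat_lit 4, nat_lit 5, nat_lit 3, nat_lit 4, nat_lit 5, nat_lit 3, nat_lit 4, nat_lit 5], [nat_lit 5, nat_lit 1, nat_lit 3, nat_lit 0, nat_lit 5, nat_lit 1, nat_lit 4, nat_lit 3, nat_lit 0, nat_lit 3, nat_lit 4], [nat_lit 5, nat_lit 0, nat_lit 2, nat_lit 3, nat_lit 5, nat_lit 2, nat_lit 5, nat_lit 0, nat_lit 3, nat_lit 4, nat_lit 3, nat_lit 4, nat_lit 2, nat_lit 3, nat_lit 1, nat_lit 3], [nat_lit 5, nat_lit 2, nat_lit 1, nat_lit 3, nat_lit 0, nat_lit 2, nat_lit 5, nat_lit 0, nat_lit 2, nat_lit 0, nat_lit 3, nat_lit 2, nat_lit 0, nat_lit 4, nat_lit 3, nat_lit 1, nat_lit 2, nat_lit 1], [nat_lit 5, nat_lit 2, nat_lit 1, nat_lit 5, nat_lit 0, nat_lit 2, nat_lit 0, nat_lit 5, nat_lit 0, nat_lit 2, nat_lit 3, nat_lit 1, nat_lit 4, nat_lit 3, nat_lit 1, nat_lit 2, nat_lit 4, nat_lit 3], [nat_lit 5, nat_lit 2, nat_lit 3, nat_lit 0,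 nat_lit 2, nat_lit 3, nat_lit 5, nat_lit 3, nat_lit 1, nat_lit 4, nat_lit 3, nat_lit 2, nat_lit 4, nat_lit 2, nat_lit 3, nat_lit 2, nat_lit 4], [nat_lit 2, nat_lit 6, nat_lit 2, nat_lit 6, nat_lit 2, nat_lit 6, nat_lit 2, nat_lit 6], [nat_lit 3, nat_lit 6, nat_lit 3, nat_lit 6, nat_lit 3, nat_lit 6], [nat_lit 0, nat_lit 6, nat_lit 5, nat_lit 0, nat_lit 6, nat_lit 5, nat_lit 0, nat_lit 6, nat_lit 5, nat_lit 0, nat_lit 6, nat_lit 5, nat_lit 0, nat_lit 6, nat_lit 5], [nat_lit 4, nat_lit 5, nat_lit 6, nat_lit 4, nat_lit 5, nat_lit 6], [nat_lit 6, nat_lit 0, nat_lit 3, nat_lit 2, nat_lit 1, nat_lit 6, nat_lit 1, nat_lit 2, nat_lit 0, nat_lit 5, nat_lit 2, nat_lit 0, nat_lit 3, nat_lit 4, nat_lit 2, nat_lit 1, nat_lit 2, nat_lit 3, nat_lit 1], [nat_lit 6, nat_lit 1, nat_lit 2, nat_lit 0, nat_lit 6, nat_lit 1, nat_lit 2, nat_lit 4, nat_lit 3, nat_lit 1, nat_lit 2, nat_lit 4], [nat_lit 6, nat_lit 3,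 nat_lit 5, nat_lit 3, nat_lit 6, nat_lit 3, nat_lit 5, nat_lit 3], [nat_lit 6, nat_lit 0, nat_lit 2, nat_lit 5, nat_lit 2, nat_lit 1, nat_lit 6, nat_lit 4, nat_lit 3, nat_lit 2, nat_lit 1, nat_lit 2, nat_lit 5, nat_lit 2, nat_lit 0, nat_lit 2, nat_lit 3, nat_lit 4], [nat_lit 6, nat_lit 0, nat_lit 4, nat_lit 5, nat_lit 6, nat_lit 0, nat_lit 6, nat_lit 5, nat_lit 1, nat_lit 5], [nat_lit 6, nat_lit 0, nat_lit 4, nat_lit 6, nat_lit 0, nat_lit 3, nat_lit 6, nat_lit 1, nat_lit 4, nat_lit 3, nat_lit 1, nat_lit 4, nat_lit 3, nat_lit 5, nat_lit 1], [nat_lit 6, nat_lit 3, nat_lit 0, nat_lit 2, nat_lit 1, nat_lit 3, nat_lit 0, nat_lit 6, nat_lit 0, nat_lit 3, nat_lit 0, nat_lit 2, nat_lit 3, nat_lit 4, nat_lit 5, nat_lit 2, nat_lit 1, nat_lit 3], [nat_lit 6, nat_lit 0, nat_lit 6, nat_lit 3, nat_lit 0, nat_lit 5, nat_lit 2, nat_lit 6, nat_lit 1, nat_lit 6, nat_lit 1, nat_lit 2, nat_lit 0, nat_lit 3, nat_lit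 0, nat_lit 3, nat_lit 5, nat_lit 1, nat_lit 3, nat_lit 1]]
def inv (i : ℕ) : ℕ := Nat.land (Nat.shiftRight (nat_lit 0x1ac681) (Nat.mul (nat_lit 3) i)) (nat_lit 7)
theorem ub2 {Γ : Type} [Group Γ] {g : ℕ → Γ} (h1 : InvOK g inv 7) (h2 : ∀ w ∈ rels, ev g w = 1) : CardLE (gen g 2) 3 :=
  tw h1 h2 L1.closes (by decide +kernel) (cardLE_gen_zero g)
theorem ub3 {Γ : Type} [Group Γ] {g : ℕ → Γ} (h1 : InvOK g inv 7) (h2 : ∀ w ∈ rels, ev g w = 1) : CardLE (gen g 3) 12 :=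
  tw h1 h2 L2.closes (by decide +kernel) (ub2 h1 h2)
theorem ub4 {Γ : Type} [Group Γ] {g : ℕ → Γ} (h1 : InvOK g inv 7) (h2 : ∀ w ∈ rels, ev g w = 1) : CardLE (gen g 4) 360 :=
  tw h1 h2 L3.closes (by decide +kernel) (ub3 h1 h2)
theorem ub5 {Γ : Type} [Group Γ] {g : ℕ → Γ} (h1 : InvOK g inv 7) (h2 : ∀ w ∈ rels, ev g w = 1) : CardLE (gen g 5) 29160 :=
  tw h1 h2 L4.closes (by decide +kernel) (ub4 h1 h2)
theorem ub6 {Γ : Type} [Group Γ] {g : ℕ → Γ} (h1 : InvOK g inv 7) (h2 : ∀ w ∈ rels, ev g w = 1) : CardLE (gen g 6) 3265920 :=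
  tw h1 h2 L5.closes (by decide +kernel) (ub5 h1 h2)
theorem ub7 {Γ : Type} [Group Γ] {g : ℕ → Γ} (h1 : InvOK g inv 7) (h2 : ∀ w ∈ rels, ev g w = 1) : CardLE (gen g 7) 898128000 :=
  tw h1 h2 L6.closes (by decide +kernel) (ub6 h1 h2)

end Cfsg.Agent.Ct.McLp
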